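import Groth.Agent.SGA1Quot.Basic
import Mathlib.RingTheory.Adjoin.Tower
import Mathlib.AlgebraicGeometry.Morphisms.FiniteType
import Mathlib.AlgebraicGeometry.Morphisms.Finite

/-!
# Quotients of schemes by finite groups: affineness and separatedness
-/

set_option autoImplicit false
set_option linter.style.haveILetI false
set_option backward.isDefEq.respectTransparency false
set_option backward.isDefEq.respectTransparency.types false

universe u

open CategoryTheory CategoryTheory.Limits AlgebraicGeometry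
open scoped Pointwise

namespace Groth.Agent.SGA1Quot

variable {X Y : Scheme.{u}} {G : Type u} [Group G] [Finite G] {ρ : G →* Aut X} {p : X ⟶ Y}

omit [Finite G] in
theorem fromSpec_smul (hp : SGA1.IsQuot ρ p) {V : Y.Opens} (hW : IsAffineOpen (p ⁻¹ᵁ V)) (g : G)
    (P Q : Spec Γ(X, p ⁻¹ᵁ V)) (h : letI := action hp V; Q.asIdeal = g • P.asIdeal) :
    hW.fromSpec Q = (ρ g).hom (hW.fromSpec P) := by
  letI := action hp V
  have e := SGA1.preimage_le_of_inv ρ p hp.inv g V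
  have hQ : Spec.map ((ρ g).hom.appLE _ _ e) P = Q := by
    refine PrimeSpectrum.ext ?_
    ext a
    rw [h, Ideal.mem_pointwise_smul_iff_inv_smul_mem, action_smul hp V g⁻¹ a]
    simp only [FEtQuot.act, inv_inv]
    rfl
  have h2 := congrArg (fun m => m P) (IsAffineOpen.SpecMap_appLE_fromSpec (ρ g).hom hW hW e)
  rw [Scheme.Hom.comp_apply, Scheme.Hom.comp_apply, hQ] at h2
  exact h2

theorem isAffineOpen_of_preimage (hp : SGA1.IsQuot ρ p) {O : Y.Opens} (hW : IsAffineOpen (p ⁻¹ᵁ O)) :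
    IsAffineOpen O := by
  letI := action hp O; letI := (p.app O).hom.toAlgebra
  haveI := action_invariant hp O
  haveI := action_comm hp O
  haveI := Algebra.IsInvariant.isIntegral Γ(Y, O) Γ(X, p ⁻¹ᵁ O) G
  refine isAffineOpen_of_isAffineOpen_basicOpen O {r | IsAffineOpen (Y.basicOpen r)} ?_ (fun i h => h)
  by_contra hne
  obtain ⟨q, hq, hle⟩ := Ideal.exists_le_maximal _ hne
  obtain ⟨P, -, hP, hPq⟩ := Ideal.exists_ideal_over_prime_of_isIntegral q (⊥ : Ideal Γ(X, p ⁻¹ᵁ O)) (by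
    intro a ha
    rw [Ideal.mem_comap, Ideal.mem_bot] at ha
    rw [hp.injective O (ha.trans (map_zero (p.app O).hom).symm)]
    exact q.zero_mem)
  let P' : Spec Γ(X, p ⁻¹ᵁ O) := ⟨P, hP⟩
  have hxO : hW.fromSpec P' ∈ p ⁻¹ᵁ O := by
    have : hW.fromSpec P' ∈ Set.range hW.fromSpec := ⟨_, rfl⟩
    rwa [hW.range_fromSpec] at this
  obtain ⟨V, hV, hy, hVO⟩ := exists_isAffineOpen_mem_and_subset (x := p (hW.fromSpec P')) (U := O) hxO
  let K : Set (Spec Γ(X, p ⁻¹ᵁ O)) := (hW.fromSpec ⁻¹' (p ⁻¹' (V : Set Y)))ᶜ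
  have hK : IsClosed K := ((V.isOpen.preimage p.continuous).preimage hW.fromSpec.continuous).isClosed_compl
  have hzero : PrimeSpectrum.zeroLocus (PrimeSpectrum.vanishingIdeal K : Set Γ(X, p ⁻¹ᵁ O)) = K := by
    rw [PrimeSpectrum.zeroLocus_vanishingIdeal_eq_closure]
    exact hK.closure_eq
  obtain ⟨r, hrJ, hrq⟩ : ∃ r, algebraMap Γ(Y, O) Γ(X, p ⁻¹ᵁ O) r ∈ PrimeSpectrum.vanishingIdeal K ∧ r ∉ q := by
    by_contra hcon
    push Not at hcon
    obtain ⟨Q, hQJ, hQ, hQq⟩ := Ideal.exists_ideal_over_prime_of_isIntegral q (PrimeSpectrum.vanishingIdeal K) hcon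
    obtain ⟨g, hg⟩ := Algebra.IsInvariant.exists_smul_of_under_eq Γ(Y, O) Γ(X, p ⁻¹ᵁ O) G P Q (hPq.trans hQq.symm)
    let Q' : Spec Γ(X, p ⁻¹ᵁ O) := ⟨Q, hQ⟩
    have hQK : Q' ∈ K := by rw [← hzero]; exact hQJ
    apply hQK
    show p (hW.fromSpec Q') ∈ V
    rw [fromSpec_smul hp hW g P' Q' hg, ← Scheme.Hom.comp_apply, hp.inv g]
    exact hy
  refine hrq (hle (Ideal.subset_span ?_))
  have hsub : Y.basicOpen r ≤ V := by
    intro y hyr
    obtain ⟨x, rfl⟩ := (surjective hp).surj y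
    have hx : x ∈ X.basicOpen (p.app O r) := by rw [← Scheme.preimage_basicOpen]; exact hyr
    have hxW : x ∈ Set.range hW.fromSpec := by
      rw [hW.range_fromSpec]; exact X.basicOpen_le _ hx
    obtain ⟨z, rfl⟩ := hxW
    have hz : z ∈ PrimeSpectrum.basicOpen (p.app O r : Γ(X, p ⁻¹ᵁ O)) := by
      rw [← hW.fromSpec_preimage_basicOpen (p.app O r)]; exact hx
    by_contra hzV
    have hzK : z ∈ PrimeSpectrum.zeroLocus (PrimeSpectrum.vanishingIdeal K : Set Γ(X, p ⁻¹ᵁ O)) :=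
      hzero.symm ▸ hzV
    exact hz (hzK hrJ)
  show IsAffineOpen (Y.basicOpen r)
  have h2 := Scheme.basicOpen_res Y r (homOfLE hVO).op
  rw [inf_eq_right.mpr hsub] at h2
  rw [← h2]
  exact hV.basicOpen _

theorem isAffineHom_of_comp (hp : SGA1.IsQuot ρ p) {Z : Scheme.{u}} (q : Y ⟶ Z) [IsAffineHom (p ≫ q)] :
    IsAffineHom q :=
  ⟨fun V hV => isAffineOpen_of_preimage hp (hV.preimage (p ≫ q))⟩

theorem isSeparated_of_comp (hp : SGA1.IsQuot ρ p) {Z : Scheme.{u}} (q : Y ⟶ Z) [IsSeparated (p ≫ q)] :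
    IsSeparated q := by
  haveI := isIntegralHom hp
  haveI := surjective hp
  haveI : UniversallyClosed (pullback.diagonal q) := by
    let μ : pullback (p ≫ q) (p ≫ q) ⟶ pullback q q :=
      pullback.map (p ≫ q) (p ≫ q) q q p p (𝟙 Z) (Category.comp_id _) (Category.comp_id _)
    have h : p ≫ pullback.diagonal q = pullback.diagonal (p ≫ q) ≫ μ := by
      apply pullback.hom_ext <;> simp [μ, pullback.map]
    haveI : UniversallyClosed μ :=
      MorphismProperty.pullback_map (P := @UniversallyClosed) (inferInstance : UniversallyClosed p)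
        (inferInstance : UniversallyClosed p) rfl rfl
    haveI : UniversallyClosed (p ≫ pullback.diagonal q) := h ▸ inferInstance
    exact UniversallyClosed.of_comp_surjective p (pullback.diagonal q)
  exact ⟨IsClosedImmersion.of_isPreimmersion _ (pullback.diagonal q).isClosedMap.isClosed_range⟩

theorem isFinite_of_locallyOfFiniteType (hp : SGA1.IsQuot ρ p) {Z : Scheme.{u}} (q : Y ⟶ Z)
    [LocallyOfFiniteType (p ≫ q)] : IsFinite p := by
  haveI := isIntegralHom hp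
  haveI := locallyOfFiniteType_of_comp p q
  exact (IsFinite.iff_isIntegralHom_and_locallyOfFiniteType p).mpr ⟨inferInstance, inferInstance⟩

theorem locallyOfFiniteType_of_comp' (hp : SGA1.IsQuot ρ p) {Z : Scheme.{u}} [IsLocallyNoetherian Z]
    (q : Y ⟶ Z) [LocallyOfFiniteType (p ≫ q)] : LocallyOfFiniteType q := by
  haveI := isFinite_of_locallyOfFiniteType hp q
  refine ⟨fun {V} hV {U} hU e => ?_⟩
  letI := (q.appLE V U e).hom.toAlgebra
  letI := (p.app U).hom.toAlgebra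
  letI := ((q.appLE V U e) ≫ p.app U).hom.toAlgebra
  haveI : IsScalarTower Γ(Z, V) Γ(Y, U) Γ(X, p ⁻¹ᵁ U) := IsScalarTower.of_algebraMap_eq' rfl
  haveI : IsNoetherianRing Γ(Z, V) := IsLocallyNoetherian.component_noetherian ⟨V, hV⟩
  haveI : Module.Finite Γ(Y, U) Γ(X, p ⁻¹ᵁ U) := p.finite_app U hU
  have e' : p ⁻¹ᵁ U ≤ (p ≫ q) ⁻¹ᵁ V := p.preimage_mono e
  have hC : Algebra.FiniteType Γ(Z, V) Γ(X, p ⁻¹ᵁ U) := by
    have h := (p ≫ q).finiteType_appLE hV (hU.preimage p) e'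
    rw [Scheme.Hom.comp_appLE] at h
    have h2 : q.app V ≫ p.appLE (q ⁻¹ᵁ V) (p ⁻¹ᵁ U) e' = q.appLE V U e ≫ p.app U := by
      rw [Scheme.Hom.app_eq_appLE, Scheme.Hom.app_eq_appLE, Scheme.Hom.appLE_comp_appLE, Scheme.Hom.appLE_comp_appLE]
    rw [h2] at h
    exact h
  exact ⟨fg_of_fg_of_fg Γ(Z, V) Γ(Y, U) Γ(X, p ⁻¹ᵁ U) hC.out Module.Finite.fg_top (hp.injective U)⟩

end Groth.Agent.SGA1Quot
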