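import Groth.Prelude.Def_SGA1
import Groth.Agent.FEtQuot.Scheme

/-!
# Affine quotients by finite groups: invariants on the whole suffice
-/

set_option autoImplicit false
set_option linter.style.haveILetI false
set_option backward.isDefEq.respectTransparency false
set_option backward.isDefEq.respectTransparency.types false

universe u

open CategoryTheory CategoryTheory.Limits AlgebraicGeometry TopologicalSpace Opposite

namespace Groth.Agent.SGA1Quot

variable {X Y : Scheme.{u}} {G : Type u} [Group G] [Finite G] (ρ : G →* Aut X) (p : X ⟶ Y)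

theorem isQuot_of_cover [IsAffineHom p] (hinv : ∀ g : G, (ρ g).hom ≫ p = p) {ι : Type*} (V : ι → Y.Opens)
    (hV : ∀ i, IsAffineOpen (V i)) (hcov0 : ∀ y : Y, ∃ i, y ∈ V i)
    (hinj : ∀ i, Function.Injective (p.app (V i)).hom)
    (hrange : ∀ i (s : Γ(X, p ⁻¹ᵁ V i)), s ∈ FEtQuot.invariants p ρ hinv (V i) → s ∈ Set.range (p.app (V i)).hom) :
    SGA1.IsQuot ρ p := by
  have hle : ∀ {i} (r : Γ(Y, V i)), p ⁻¹ᵁ Y.basicOpen r ≤ p ⁻¹ᵁ V i := fun r => p.preimage_mono (Y.basicOpen_le r)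
  have hnat : ∀ {U V : Y.Opens} (i : V ≤ U) (a : Γ(Y, U)),
      p.app V (Y.presheaf.map (homOfLE i).op a) =
        X.presheaf.map (homOfLE (p.preimage_mono i)).op (p.app U a) := fun i a =>
    ConcreteCategory.congr_hom (p.naturality (homOfLE i).op) a
  have hbinj : ∀ (i) (r : Γ(Y, V i)), Function.Injective (p.app (Y.basicOpen r)).hom := by
    intro i r
    rw [injective_iff_map_eq_zero]
    intro z hz
    letI := (Y.presheaf.map (homOfLE (Y.basicOpen_le r)).op).hom.toAlgebra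
    haveI : IsLocalization.Away r Γ(Y, Y.basicOpen r) := (hV i).isLocalization_basicOpen r
    letI := (X.presheaf.map (homOfLE (hle r)).op).hom.toAlgebra
    haveI : IsLocalization.Away (p.app (V i) r) Γ(X, p ⁻¹ᵁ Y.basicOpen r) :=
      RelSpec.QCAlg.isQC_pushforward p (V i) (hV i) r
    obtain ⟨⟨a, ⟨_, n, rfl⟩⟩, h⟩ := IsLocalization.surj (Submonoid.powers r) z
    have h' : z * Y.presheaf.map (homOfLE (Y.basicOpen_le r)).op (r ^ n) =
        Y.presheaf.map (homOfLE (Y.basicOpen_le r)).op a := h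
    have h2 := congrArg (p.app (Y.basicOpen r)).hom h'
    rw [map_mul, hz, zero_mul] at h2
    have h3 : algebraMap Γ(X, p ⁻¹ᵁ V i) Γ(X, p ⁻¹ᵁ Y.basicOpen r) (p.app (V i) a) = 0 :=
      ((hnat _ a).symm.trans h2.symm)
    obtain ⟨⟨_, m, rfl⟩, hm⟩ := (IsLocalization.map_eq_zero_iff (Submonoid.powers (p.app (V i) r)) _ _).mp h3
    have h4 : r ^ m * a = 0 := hinj i (by rw [map_mul, map_pow, map_zero]; exact hm)
    have hu : IsUnit (algebraMap Γ(Y, V i) Γ(Y, Y.basicOpen r) (r ^ m * r ^ n)) := by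
      rw [← pow_add]; exact IsLocalization.map_units _ (⟨_, m + n, rfl⟩ : Submonoid.powers r)
    have hzero : algebraMap Γ(Y, V i) Γ(Y, Y.basicOpen r) (r ^ m * r ^ n) * z = 0 := by
      rw [map_mul, mul_assoc, mul_comm (algebraMap _ _ (r ^ n)) z]
      exact (congrArg (_ * ·) h).trans (by rw [← map_mul, h4, map_zero])
    exact hu.mul_right_eq_zero.mp hzero
  have hbsurj : ∀ (i) (r : Γ(Y, V i)), ∀ s ∈ FEtQuot.invariants p ρ hinv (Y.basicOpen r),
      s ∈ Set.range (p.app (Y.basicOpen r)).hom := by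
    intro i r s hs
    letI := ((FEtQuot.invPresheaf p ρ hinv).map (homOfLE (Y.basicOpen_le r)).op).hom.toAlgebra
    letI iY := (Y.presheaf.map (homOfLE (Y.basicOpen_le r)).op).hom.toAlgebra
    haveI : IsLocalization.Away r Γ(Y, Y.basicOpen r) := (hV i).isLocalization_basicOpen r
    haveI : IsLocalization.Away ((FEtQuot.invStr p ρ hinv).app (op (V i)) r)
        ((FEtQuot.invPresheaf p ρ hinv).obj (op (Y.basicOpen r))) :=
      FEtQuot.isQC_inv p ρ hinv (V i) (hV i) r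
    obtain ⟨⟨b, ⟨_, n, rfl⟩⟩, h⟩ := IsLocalization.surj (Submonoid.powers ((FEtQuot.invStr p ρ hinv).app (op (V i)) r))
      (show (FEtQuot.invPresheaf p ρ hinv).obj (op (Y.basicOpen r)) from ⟨s, hs⟩)
    have h' : s * X.presheaf.map (homOfLE (hle r)).op (p.app (V i) r ^ n) = X.presheaf.map (homOfLE (hle r)).op b.1 :=
      congrArg Subtype.val h
    obtain ⟨a, ha⟩ := hrange i b.1 b.2
    obtain ⟨v, hv⟩ := isUnit_iff_exists_inv.mp (IsLocalization.map_units Γ(Y, Y.basicOpen r)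
      (⟨_, n, rfl⟩ : Submonoid.powers r))
    refine ⟨Y.presheaf.map (homOfLE (Y.basicOpen_le r)).op a * v, ?_⟩
    have hv' := congrArg (p.app (Y.basicOpen r)).hom hv
    rw [map_mul, map_one] at hv'
    rw [map_mul]
    erw [hnat] at hv' ⊢
    rw [map_pow] at hv'
    erw [ha, ← h', mul_assoc, hv', mul_one]
  have hcov : ∀ U : Y.Opens, U ≤ ⨆ r : Σ i, {r : Γ(Y, V i) // Y.basicOpen r ≤ U}, Y.basicOpen r.2.1 := fun U y hy => by
    obtain ⟨i, hi⟩ := hcov0 y
    obtain ⟨r, hr, hyr⟩ := (hV i).exists_basicOpen_le ⟨y, hy⟩ hi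
    exact Opens.mem_iSup.mpr ⟨⟨i, r, hr⟩, hyr⟩
  have hUinj : ∀ U : Y.Opens, Function.Injective (p.app U).hom := fun U a b hab =>
    Y.sheaf.eq_of_locally_eq' (fun r : Σ i, {r : Γ(Y, V i) // Y.basicOpen r ≤ U} => Y.basicOpen r.2.1) U
      (fun r => homOfLE r.2.2) (hcov U) a b fun r => hbinj r.1 r.2.1 (by
        erw [hnat, hnat]
        exact congrArg _ hab)
  refine ⟨inferInstance, hinv, hUinj, fun U s => ⟨?_, fun hs => ?_⟩⟩
  · rintro ⟨a, rfl⟩ g
    have h := congrArg (fun φ : Γ(Y, U) ⟶ Γ(X, p ⁻¹ᵁ U) => φ a) (FEtQuot.app_act p ρ hinv g⁻¹ U)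
    simp only [FEtQuot.act, inv_inv] at h
    exact h
  · have hs' : s ∈ FEtQuot.invariants p ρ hinv U := fun g => hs g⁻¹
    choose a ha using fun r : Σ i, {r : Γ(Y, V i) // Y.basicOpen r ≤ U} =>
      hbsurj r.1 r.2.1 _ (FEtQuot.res_mem p ρ hinv r.2.2 hs')
    have hc : TopCat.Presheaf.IsCompatible Y.sheaf.obj (fun r : Σ i, {r : Γ(Y, V i) // Y.basicOpen r ≤ U} => Y.basicOpen r.2.1) a := by
      intro r r'
      apply hUinj
      erw [hnat, hnat, ha, ha]
      simp only [← ConcreteCategory.comp_apply, ← Functor.map_comp]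
      rfl
    obtain ⟨t, ht, -⟩ := Y.sheaf.existsUnique_gluing' _ U (fun r : Σ i, {r : Γ(Y, V i) // Y.basicOpen r ≤ U} => homOfLE r.2.2) (hcov U) a hc
    refine ⟨t, X.sheaf.eq_of_locally_eq' (fun r : Σ i, {r : Γ(Y, V i) // Y.basicOpen r ≤ U} => p ⁻¹ᵁ Y.basicOpen r.2.1) (p ⁻¹ᵁ U)
      (fun r => homOfLE (p.preimage_mono r.2.2)) ?_ _ _ fun r => ?_⟩
    · rw [← Scheme.Hom.preimage_iSup]; exact p.preimage_mono (hcov U)
    · erw [← hnat r.2.2 t, ht r]
      exact ha r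


theorem isQuot_of_affine [IsAffine Y] [IsAffineHom p] (hinv : ∀ g : G, (ρ g).hom ≫ p = p)
    (hinj : Function.Injective (p.app ⊤).hom)
    (hrange : ∀ s : Γ(X, p ⁻¹ᵁ ⊤), s ∈ FEtQuot.invariants p ρ hinv ⊤ → s ∈ Set.range (p.app ⊤).hom) :
    SGA1.IsQuot ρ p :=
  isQuot_of_cover ρ p hinv (fun _ : PUnit.{1} => (⊤ : Y.Opens)) (fun _ => isAffineOpen_top Y)
    (fun _ => ⟨PUnit.unit, trivial⟩) (fun _ => hinj) (fun _ => hrange)

end Groth.Agent.SGA1Quot
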