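import Groth.Prelude.Def_SGA1
import Mathlib.AlgebraicGeometry.Gluing
import Mathlib.AlgebraicGeometry.AffineScheme
import Mathlib.AlgebraicGeometry.Morphisms.UnderlyingMap

/-!
# Morphisms which are quotient maps with injective maps on sections: factorisation
-/

set_option autoImplicit false
set_option linter.style.haveILetI false
set_option backward.isDefEq.respectTransparency false
set_option backward.isDefEq.respectTransparency.types false

universe u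

open CategoryTheory CategoryTheory.Limits AlgebraicGeometry TopologicalSpace

namespace Groth.Agent.SGA1Quot

variable {X Y Z : Scheme.{u}} {p : X ⟶ Y}

theorem appLE_congr {A B : Scheme.{u}} {a b : A ⟶ B} (U : B.Opens) (V : A.Opens) (e : V ≤ a ⁻¹ᵁ U)
    (e' : V ≤ b ⁻¹ᵁ U) (h : a = b) : a.appLE U V e = b.appLE U V e' := by
  subst h; rfl

theorem ι_comp_eq {A B : Scheme.{u}} (m : A ⟶ B) {W : B.Opens} (hW : IsAffineOpen W) (V : A.Opens)
    (e : V ≤ m ⁻¹ᵁ W) : V.ι ≫ m = V.toSpecΓ ≫ Spec.map (m.appLE W V e) ≫ hW.fromSpec := by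
  rw [← Category.assoc, Scheme.Opens.toSpecΓ_SpecMap_appLE, Category.assoc, IsAffineOpen.toSpecΓ_fromSpec,
    Scheme.Hom.resLE_comp_ι]

theorem hom_ext (hs : Function.Surjective p) (hinj : ∀ U : Y.Opens, Function.Injective (p.app U).hom)
    (m m' : Y ⟶ Z) (h : p ≫ m = p ≫ m') : m = m' := by
  refine Scheme.hom_ext_of_forall _ _ fun y => ?_
  obtain ⟨W, hW, hy, -⟩ := exists_isAffineOpen_mem_and_subset (x := m y) (U := (⊤ : Z.Opens)) trivial
  have hpt : ∀ z, m z = m' z := fun z => by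
    obtain ⟨x, rfl⟩ := hs z
    rw [← Scheme.Hom.comp_apply, h, Scheme.Hom.comp_apply]
  let V := m ⁻¹ᵁ W
  have e' : V ≤ m' ⁻¹ᵁ W := fun z hz => (hpt z ▸ hz : m' z ∈ W)
  refine ⟨V, hy, ?_⟩
  rw [ι_comp_eq m hW V le_rfl, ι_comp_eq m' hW V e']
  have : m.appLE W V le_rfl = m'.appLE W V e' := by
    ext a
    apply hinj V
    rw [← CommRingCat.comp_apply, ← CommRingCat.comp_apply, Scheme.Hom.app_eq_appLE,
      Scheme.Hom.appLE_comp_appLE, Scheme.Hom.appLE_comp_appLE]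
    exact congrArg (fun φ : Γ(Z, W) ⟶ Γ(X, p ⁻¹ᵁ V) => φ a) (appLE_congr W _ _ _ h)
  rw [this]

theorem hom_ext_opens (hs : Function.Surjective p) (hinj : ∀ U : Y.Opens, Function.Injective (p.app U).hom)
    (O : Y.Opens) (m m' : O.toScheme ⟶ Z) (h : (p ∣_ O) ≫ m = (p ∣_ O) ≫ m') : m = m' := by
  refine hom_ext (fun y => ?_) (fun U => ?_) m m' h
  · obtain ⟨x, hx⟩ := hs (O.ι y)
    refine ⟨⟨x, show p x ∈ O by rw [hx]; exact y.2⟩, ?_⟩
    apply O.ι.isOpenEmbedding.injective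
    rw [← Scheme.Hom.comp_apply, morphismRestrict_ι, Scheme.Hom.comp_apply]
    exact hx
  · rw [morphismRestrict_app]
    exact (ConcreteCategory.bijective_of_isIso (X.presheaf.map
      (eqToHom (image_morphismRestrict_preimage p O U)).op)).1.comp (hinj _)

theorem exists_factor (hq : Topology.IsQuotientMap p) (hinj : ∀ U : Y.Opens, Function.Injective (p.app U).hom)
    (h : X ⟶ Z) (hfib : ∀ x x', p x = p x' → h x = h x')
    (hrange : ∀ (W : Z.Opens) (V : Y.Opens) (e : p ⁻¹ᵁ V ≤ h ⁻¹ᵁ W) (a : Γ(Z, W)),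
      (h.appLE W (p ⁻¹ᵁ V) e).hom a ∈ Set.range (p.app V).hom) :
    ∃ m : Y ⟶ Z, p ≫ m = h := by
  classical
  choose lift hlift using hq.surjective
  let φ : Y → Z := fun y => h (lift y)
  have hφ : ∀ x, φ (p x) = h x := fun x => hfib _ _ (hlift (p x))
  have hφc : Continuous φ := hq.continuous_iff.mpr (by
    rw [show φ ∘ p = h from funext hφ]; exact h.continuous)
  let V : Z.affineOpens → Y.Opens := fun W => ⟨φ ⁻¹' W.1, W.1.isOpen.preimage hφc⟩
  have hcov : IsOpenCover V := Opens.ext (Set.eq_univ_iff_forall.mpr fun y => by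
    obtain ⟨W, hW, hy, -⟩ := exists_isAffineOpen_mem_and_subset (x := φ y) (U := (⊤ : Z.Opens)) trivial
    rw [SetLike.mem_coe, Opens.mem_iSup]
    exact ⟨⟨W, hW⟩, hy⟩)
  have hle : ∀ W, p ⁻¹ᵁ V W ≤ h ⁻¹ᵁ W.1 := fun W x hx => (hφ x ▸ hx : h x ∈ W.1)
  let R : ∀ W, Γ(Y, V W) ≃+* (p.app (V W)).hom.range := fun W =>
    RingEquiv.ofBijective (p.app (V W)).hom.rangeRestrict
      ⟨fun a b hab => hinj (V W) (congrArg Subtype.val hab), (p.app (V W)).hom.rangeRestrict_surjective⟩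
  let ψ : ∀ W : Z.affineOpens, Γ(Z, W.1) ⟶ Γ(Y, V W) := fun W => CommRingCat.ofHom
    ((R W).symm.toRingHom.comp ((h.appLE W.1 (p ⁻¹ᵁ V W) (hle W)).hom.codRestrict _
      (fun a => hrange W.1 (V W) (hle W) a)))
  have hψ : ∀ W, ψ W ≫ p.app (V W) = h.appLE W.1 (p ⁻¹ᵁ V W) (hle W) := fun W => by
    ext a
    exact congrArg Subtype.val ((R W).apply_symm_apply ⟨_, hrange W.1 (V W) (hle W) a⟩)
  let n : ∀ W : Z.affineOpens, (V W).toScheme ⟶ Z := fun W => (V W).toSpecΓ ≫ Spec.map (ψ W) ≫ W.2.fromSpec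
  have hn : ∀ W, (p ∣_ V W) ≫ n W = (p ⁻¹ᵁ V W).ι ≫ h := fun W => by
    rw [ι_comp_eq h W.2 _ (hle W), ← hψ W, Spec.map_comp_assoc, Scheme.Hom.app_eq_appLE,
      ← Category.assoc ((p ⁻¹ᵁ V W).toSpecΓ), Scheme.Opens.toSpecΓ_SpecMap_appLE, Category.assoc,
      Scheme.Hom.resLE_eq_morphismRestrict]
  let 𝒰 := Y.openCoverOfIsOpenCover V hcov
  have hcompat : ∀ A B, pullback.fst (𝒰.f A) (𝒰.f B) ≫ n A = pullback.snd (𝒰.f A) (𝒰.f B) ≫ n B := fun A B => by
    show pullback.fst (V A).ι (V B).ι ≫ _ = pullback.snd (V A).ι (V B).ι ≫ _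
    rw [← cancel_epi (isPullback_opens_inf (V A) (V B)).isoPullback.hom, IsPullback.isoPullback_hom_fst_assoc,
      IsPullback.isoPullback_hom_snd_assoc]
    refine hom_ext_opens hq.surjective hinj _ _ _ ?_
    have key : ∀ (C : Z.affineOpens) (hC : V A ⊓ V B ≤ V C),
        (p ∣_ (V A ⊓ V B)) ≫ Y.homOfLE hC ≫ n C = (p ⁻¹ᵁ (V A ⊓ V B)).ι ≫ h := fun C hC => by
      have : (p ∣_ (V A ⊓ V B)) ≫ Y.homOfLE hC = X.homOfLE (p.preimage_mono hC) ≫ (p ∣_ V C) := by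
        simp [← cancel_mono (V C).ι]
      rw [reassoc_of% this, hn, Scheme.homOfLE_ι_assoc]
    rw [key A, key B]
  refine ⟨𝒰.glueMorphisms n hcompat, Scheme.hom_ext_of_forall _ _ fun x => ?_⟩
  obtain ⟨W, hx⟩ := hcov.exists_mem (p x)
  refine ⟨p ⁻¹ᵁ V W, hx, ?_⟩
  rw [← hn W, ← morphismRestrict_ι_assoc]
  exact congrArg ((p ∣_ V W) ≫ ·) (𝒰.ι_glueMorphisms n hcompat W)

end Groth.Agent.SGA1Quot
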