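import Groth.Prelude.Def_SGA1
import Groth.Agent.FEtQuot.Scheme
import Mathlib.RingTheory.Invariant.Basic
import Mathlib.AlgebraicGeometry.Morphisms.Integral
import Mathlib.AlgebraicGeometry.Morphisms.Proper

/-!
# Quotients of schemes by finite groups: integrality, orbits, topology
-/

set_option autoImplicit false
set_option linter.style.haveILetI false
set_option backward.isDefEq.respectTransparency false
set_option backward.isDefEq.respectTransparency.types false

universe u

open CategoryTheory CategoryTheory.Limits AlgebraicGeometry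
open scoped Pointwise

namespace Groth.Agent.SGA1Quot

variable {X Y : Scheme.{u}} {G : Type u} [Group G] {ρ : G →* Aut X} {p : X ⟶ Y}

/-- The action on the sections over an invariant preimage. -/
noncomputable abbrev action (hp : SGA1.IsQuot ρ p) (V : Y.Opens) : MulSemiringAction G Γ(X, p ⁻¹ᵁ V) :=
  letI := (p.app V).hom.toAlgebra
  MulSemiringAction.compHom Γ(X, p ⁻¹ᵁ V) (FEtQuot.actHom p ρ hp.inv V)

theorem action_smul (hp : SGA1.IsQuot ρ p) (V : Y.Opens) (g : G) (a : Γ(X, p ⁻¹ᵁ V)) :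
    (letI := action hp V; g • a) = FEtQuot.act p ρ hp.inv g V a := rfl

theorem action_comm (hp : SGA1.IsQuot ρ p) (V : Y.Opens) :
    letI := action hp V; letI := (p.app V).hom.toAlgebra
    SMulCommClass G Γ(Y, V) Γ(X, p ⁻¹ᵁ V) := by
  letI := action hp V; letI := (p.app V).hom.toAlgebra
  exact ⟨fun g a b => (FEtQuot.actHom p ρ hp.inv V g).toLinearEquiv.map_smul a b⟩

theorem action_invariant (hp : SGA1.IsQuot ρ p) (V : Y.Opens) :
    letI := action hp V; letI := (p.app V).hom.toAlgebra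
    Algebra.IsInvariant Γ(Y, V) Γ(X, p ⁻¹ᵁ V) G := by
  letI := action hp V; letI := (p.app V).hom.toAlgebra
  refine ⟨fun b hb => (hp.range_iff V b).mpr fun g => ?_⟩
  have h : FEtQuot.act p ρ hp.inv g⁻¹ V b = b := hb g⁻¹
  simp only [FEtQuot.act, inv_inv] at h
  exact h

variable [Finite G]

theorem isIntegralHom (hp : SGA1.IsQuot ρ p) : IsIntegralHom p :=
  haveI := hp.affine
  { isIntegral_app := fun V _ => by
      letI := action hp V; letI := (p.app V).hom.toAlgebra
      haveI := action_invariant hp V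
      exact (Algebra.IsInvariant.isIntegral Γ(Y, V) Γ(X, p ⁻¹ᵁ V) G).1 }

theorem surjective (hp : SGA1.IsQuot ρ p) : Surjective p := ⟨fun y => by
  haveI := hp.affine
  haveI := isIntegralHom hp
  obtain ⟨V, hV, hy, -⟩ := exists_isAffineOpen_mem_and_subset (x := y) (U := (⊤ : Y.Opens)) trivial
  obtain ⟨z, hz⟩ := (p.isIntegral_app V hV).comap_surjective (hp.injective V) (hV.primeIdealOf ⟨y, hy⟩)
  refine ⟨(hV.preimage p).fromSpec z, ?_⟩
  have h1 := IsAffineOpen.SpecMap_appLE_fromSpec p hV (hV.preimage p) le_rfl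
  rw [← Scheme.Hom.comp_apply, ← h1, ← Scheme.Hom.app_eq_appLE, Scheme.Hom.comp_apply]
  exact (congrArg hV.fromSpec hz).trans (hV.fromSpec_primeIdealOf ⟨y, hy⟩)⟩

theorem exists_smul_eq (hp : SGA1.IsQuot ρ p) {x x' : X} (h : p x = p x') :
    ∃ g : G, (ρ g).hom x = x' := by
  haveI := hp.affine
  obtain ⟨V, hV, hy, -⟩ := exists_isAffineOpen_mem_and_subset (x := p x) (U := (⊤ : Y.Opens)) trivial
  letI := action hp V; letI := (p.app V).hom.toAlgebra
  haveI := action_invariant hp V
  haveI := action_comm hp V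
  let hW := hV.preimage p
  let P := hW.primeIdealOf ⟨x, hy⟩
  let Q := hW.primeIdealOf ⟨x', (h ▸ hy : p x' ∈ V)⟩
  have key : ∀ z, p (hW.fromSpec z) = hV.fromSpec (Spec.map (p.app V) z) := fun z => by
    rw [← Scheme.Hom.comp_apply, ← Scheme.Hom.comp_apply, Scheme.Hom.app_eq_appLE,
      IsAffineOpen.SpecMap_appLE_fromSpec p hV hW le_rfl]
  have hPQ : P.asIdeal.under Γ(Y, V) = Q.asIdeal.under Γ(Y, V) := by
    have h1 : p (hW.fromSpec P) = p (hW.fromSpec Q) := by
      rw [hW.fromSpec_primeIdealOf, hW.fromSpec_primeIdealOf]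
      exact h
    rw [key, key] at h1
    exact congrArg PrimeSpectrum.asIdeal (hV.fromSpec.isOpenEmbedding.injective h1)
  obtain ⟨g, hg⟩ := Algebra.IsInvariant.exists_smul_of_under_eq Γ(Y, V) Γ(X, p ⁻¹ᵁ V) G P.asIdeal Q.asIdeal hPQ
  refine ⟨g, ?_⟩
  have e := SGA1.preimage_le_of_inv ρ p hp.inv g V
  have hQ : Spec.map ((ρ g).hom.appLE _ _ e) P = Q := by
    refine PrimeSpectrum.ext ?_
    ext a
    rw [hg, Ideal.mem_pointwise_smul_iff_inv_smul_mem, action_smul hp V g⁻¹ a]
    simp only [FEtQuot.act, inv_inv]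
    rfl
  have h2 := congrArg (fun m => m P) (IsAffineOpen.SpecMap_appLE_fromSpec (ρ g).hom hW hW e)
  rw [Scheme.Hom.comp_apply, Scheme.Hom.comp_apply, hQ, hW.fromSpec_primeIdealOf, hW.fromSpec_primeIdealOf] at h2
  exact h2.symm

theorem eq_iff (hp : SGA1.IsQuot ρ p) (x x' : X) : p x = p x' ↔ ∃ g : G, (ρ g).hom x = x' :=
  ⟨exists_smul_eq hp, fun ⟨g, hg⟩ => by rw [← hg, ← Scheme.Hom.comp_apply, hp.inv g]⟩

theorem isQuotientMap (hp : SGA1.IsQuot ρ p) : Topology.IsQuotientMap p :=
  haveI := isIntegralHom hp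
  p.isClosedMap.isQuotientMap p.continuous (surjective hp).surj

end Groth.Agent.SGA1Quot
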