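import Groth.Agent.SGA1Quot.AffineQuot
import Groth.Agent.SGA1Quot.Basic
import Groth.Agent.S13606
import Groth.Agent.S2925
import Groth.Agent.GrpdLib.InvariantAffine
import Mathlib.AlgebraicGeometry.Gluing

/-!
# Existence of quotients by finite groups when orbits lie in affine opens
-/

set_option autoImplicit false
set_option linter.style.haveILetI false
set_option backward.isDefEq.respectTransparency false
set_option backward.isDefEq.respectTransparency.types false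

universe u

open CategoryTheory CategoryTheory.Limits AlgebraicGeometry TopologicalSpace Opposite

namespace Groth.Agent.SGA1Quot

variable {X : Scheme.{u}} {G : Type u} [Group G] (ρ : G →* Aut X)

/-- An open stable under the action. -/
def IsStable (W : X.Opens) : Prop := ∀ g : G, W ≤ (ρ g).hom ⁻¹ᵁ W

theorem mul_hom (g h : G) : (ρ (g * h)).hom = (ρ h).hom ≫ (ρ g).hom := by rw [map_mul]; rfl

theorem exists_invariant_affine [Finite G] (x : X) {U : X.Opens} (hU : IsAffineOpen U)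
    (hx : ∀ g : G, (ρ g).hom x ∈ U) : ∃ W : X.Opens, IsAffineOpen W ∧ IsStable ρ W ∧ x ∈ W ∧ W ≤ U := by
  classical
  cases nonempty_fintype G
  let U' : X.Opens := ⟨⋂ g : G, ((ρ g).hom ⁻¹ᵁ U : Set X), isOpen_iInter_of_finite fun g => ((ρ g).hom ⁻¹ᵁ U).isOpen⟩
  have hU' : ∀ z, z ∈ U' ↔ ∀ g : G, (ρ g).hom z ∈ U := fun z => Set.mem_iInter
  haveI : IsAffine U.toScheme := hU
  obtain ⟨f, hOf, hfU'⟩ := GrpdLib.exists_basicOpen_of_finite
    (Set.range fun g : G => (⟨(ρ g).hom x, hx g⟩ : U.toScheme)) (Set.finite_range _) (U.ι ⁻¹ᵁ U') (by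
      rintro _ ⟨g, rfl⟩
      show (ρ g).hom x ∈ U'
      rw [hU']
      intro h
      rw [← Scheme.Hom.comp_apply, ← mul_hom]
      exact hx _)
  let D : X.Opens := U.ι ''ᵁ (U.toScheme.basicOpen f)
  have hD : IsAffineOpen D := ((isAffineOpen_top U.toScheme).basicOpen f).image_of_isOpenImmersion U.ι
  have hDU' : D ≤ U' := by rintro _ ⟨z, hz, rfl⟩; exact hfU' hz
  let W : X.Opens := Finset.univ.inf' Finset.univ_nonempty fun g : G => (ρ g).hom ⁻¹ᵁ D
  have hinf : ∀ (s : Finset G) (hs : s.Nonempty) (z : X),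
      z ∈ s.inf' hs (fun g => (ρ g).hom ⁻¹ᵁ D) ↔ ∀ g ∈ s, (ρ g).hom z ∈ D := by
    intro s hs
    induction hs using Finset.Nonempty.cons_induction with
    | singleton a => intro z; simp only [Finset.inf'_singleton, Finset.mem_singleton, forall_eq]; rfl
    | cons a s ha hs ih =>
      intro z
      rw [Finset.inf'_cons hs, Finset.forall_mem_cons]
      exact and_congr Iff.rfl (ih z)
  have hW : ∀ z, z ∈ W ↔ ∀ g : G, (ρ g).hom z ∈ D := fun z =>
    (hinf _ _ z).trans ⟨fun h g => h g (Finset.mem_univ g), fun h g _ => h g⟩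
  refine ⟨W, ?_, fun g z hz => ?_, ?_, fun z hz => ?_⟩
  · have hP : IsAffineOpen W ∧ W ≤ U := by
      refine Finset.inf'_induction (p := fun O : X.Opens => IsAffineOpen O ∧ O ≤ U) _ _ ?_ fun g _ => ?_
      · rintro O ⟨hO, hOU⟩ O' ⟨hO', hOU'⟩
        refine ⟨?_, inf_le_left.trans hOU⟩
        have h1 : U.ι ''ᵁ (U.ι ⁻¹ᵁ O ⊓ U.ι ⁻¹ᵁ O') = O ⊓ O' := by
          ext z
          constructor
          · rintro ⟨w, hw, rfl⟩; exact hw
          · intro hz; exact ⟨⟨z, hOU hz.1⟩, hz, rfl⟩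
        rw [← h1]
        exact ((hO.preimage_of_isOpenImmersion U.ι (by rwa [Scheme.Opens.opensRange_ι])).inf
          (hO'.preimage_of_isOpenImmersion U.ι (by rwa [Scheme.Opens.opensRange_ι]))).image_of_isOpenImmersion U.ι
      · refine ⟨hD.preimage (ρ g).hom, fun z hz => ?_⟩
        have := (hU' _).mp (hDU' hz) g⁻¹
        rw [← Scheme.Hom.comp_apply, ← mul_hom, inv_mul_cancel, map_one] at this
        exact this
    exact hP.1
  · show (ρ g).hom z ∈ W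
    rw [hW]
    intro h
    rw [← Scheme.Hom.comp_apply, ← mul_hom]
    exact (hW z).mp hz _
  · rw [hW]
    exact fun g => ⟨_, hOf ⟨g, rfl⟩, rfl⟩
  · have h := (hW z).mp hz 1
    rw [map_one] at h
    have h' := (hU' _).mp (hDU' h) 1
    rw [map_one] at h'
    exact h'

theorem range_le_of_stable {W : X.Opens} (hW : IsStable ρ W) (g : G) :
    Set.range (W.ι ≫ (ρ g).hom) ⊆ Set.range W.ι := by
  rw [Scheme.Opens.range_ι]
  rintro _ ⟨z, rfl⟩
  exact hW g z.2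

/-- The restriction of the action to a stable open. -/
noncomputable def resHom {W : X.Opens} (hW : IsStable ρ W) (g : G) : W.toScheme ⟶ W.toScheme :=
  IsOpenImmersion.lift W.ι _ (range_le_of_stable ρ hW g)

theorem resHom_ι {W : X.Opens} (hW : IsStable ρ W) (g : G) : resHom ρ hW g ≫ W.ι = W.ι ≫ (ρ g).hom :=
  IsOpenImmersion.lift_fac _ _ _

theorem resHom_mul {W : X.Opens} (hW : IsStable ρ W) (g h : G) :
    resHom ρ hW (g * h) = resHom ρ hW h ≫ resHom ρ hW g := by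
  rw [← cancel_mono W.ι, Category.assoc, resHom_ι, resHom_ι, reassoc_of% (resHom_ι ρ hW h), mul_hom]

theorem resHom_one {W : X.Opens} (hW : IsStable ρ W) : resHom ρ hW 1 = 𝟙 _ := by
  rw [← cancel_mono W.ι, resHom_ι, map_one, Category.id_comp]
  exact Category.comp_id _

/-- The restricted action. -/
noncomputable def resAct {W : X.Opens} (hW : IsStable ρ W) : G →* Aut W.toScheme where
  toFun g := ⟨resHom ρ hW g, resHom ρ hW g⁻¹, by rw [← resHom_mul, inv_mul_cancel, resHom_one],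
    by rw [← resHom_mul, mul_inv_cancel, resHom_one]⟩
  map_one' := Iso.ext (resHom_one ρ hW)
  map_mul' g h := Iso.ext (resHom_mul ρ hW g h)

theorem resAct_ι {W : X.Opens} (hW : IsStable ρ W) (g : G) :
    (resAct ρ hW g).hom ≫ W.ι = W.ι ≫ (ρ g).hom := resHom_ι ρ hW g

/-- Invariant functions on a stable open. -/
noncomputable def invFun {W : X.Opens} (hW : IsStable ρ W) : Subring Γ(W.toScheme, ⊤) where
  carrier := {a | ∀ g : G, (resAct ρ hW g).hom.appTop a = a}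
  mul_mem' {a b} ha hb g := by rw [map_mul, ha g, hb g]
  one_mem' g := map_one _
  add_mem' {a b} ha hb g := by rw [map_add, ha g, hb g]
  zero_mem' g := map_zero _
  neg_mem' {a} ha g := by rw [map_neg, ha g]

/-- The inclusion of the invariants. -/
noncomputable abbrev invIncl {W : X.Opens} (hW : IsStable ρ W) :
    CommRingCat.of (invFun ρ hW) ⟶ Γ(W.toScheme, ⊤) :=
  CommRingCat.ofHom (invFun ρ hW).subtype

/-- The local quotient. -/
noncomputable abbrev locQ {W : X.Opens} (hW : IsStable ρ W) : W.toScheme ⟶ Spec (CommRingCat.of (invFun ρ hW)) :=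
  W.toScheme.toSpecΓ ≫ Spec.map (invIncl ρ hW)

theorem isQuot_locQ [Finite G] {W : X.Opens} (hW : IsStable ρ W) (hWa : IsAffineOpen W) :
    SGA1.IsQuot (resAct ρ hW) (locQ ρ hW) := by
  haveI : IsAffine W.toScheme := hWa
  have hinv : ∀ g, (resAct ρ hW g).hom ≫ locQ ρ hW = locQ ρ hW := fun g => by
    rw [Scheme.toSpecΓ_naturality_assoc, ← Spec.map_comp]
    congr 2
    ext a
    exact a.2 g
  have happ : (locQ ρ hW).appTop = (Scheme.ΓSpecIso _).hom ≫ invIncl ρ hW := by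
    rw [Scheme.Hom.comp_appTop, Scheme.toSpecΓ_appTop, Scheme.ΓSpecIso_naturality]
  have hb := ConcreteCategory.bijective_of_isIso (Scheme.ΓSpecIso (CommRingCat.of (invFun ρ hW))).hom
  refine isQuot_of_affine _ _ hinv ?_ fun s hs => ?_
  · show Function.Injective (locQ ρ hW).appTop.hom
    rw [happ]
    exact Subtype.val_injective.comp hb.1
  · obtain ⟨z, hz⟩ := hb.2 ⟨s, fun g => by
      have h := hs g⁻¹
      simp only [FEtQuot.act, inv_inv] at h
      rw [Scheme.Hom.appTop, Scheme.Hom.app_eq_appLE]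
      exact h⟩
    refine ⟨z, ?_⟩
    show (locQ ρ hW).appTop z = s
    rw [happ, ConcreteCategory.comp_apply, hz]
    rfl

theorem restr_mem {W W' : X.Opens} (hW : IsStable ρ W) (hW' : IsStable ρ W') (h : W' ≤ W)
    {a : Γ(W.toScheme, ⊤)} (ha : a ∈ invFun ρ hW) : (X.homOfLE h).appTop a ∈ invFun ρ hW' := fun g => by
  have e : (resAct ρ hW' g).hom ≫ X.homOfLE h = X.homOfLE h ≫ (resAct ρ hW g).hom := by
    rw [← cancel_mono W.ι, Category.assoc, Scheme.homOfLE_ι, Category.assoc, resAct_ι, resAct_ι,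
      Scheme.homOfLE_ι_assoc]
  rw [← ConcreteCategory.comp_apply, ← Scheme.Hom.comp_appTop, e, Scheme.Hom.comp_appTop,
    ConcreteCategory.comp_apply, ha g]

/-- Transition maps of local quotients. -/
noncomputable def locMap {W W' : X.Opens} (hW : IsStable ρ W) (hW' : IsStable ρ W') (h : W' ≤ W) :
    Spec (CommRingCat.of (invFun ρ hW')) ⟶ Spec (CommRingCat.of (invFun ρ hW)) :=
  Spec.map (CommRingCat.ofHom (((X.homOfLE h).appTop.hom.comp (invFun ρ hW).subtype).codRestrict (invFun ρ hW')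
    fun a => restr_mem ρ hW hW' h a.2))

theorem locQ_locMap {W W' : X.Opens} (hW : IsStable ρ W) (hW' : IsStable ρ W') (h : W' ≤ W) :
    locQ ρ hW' ≫ locMap ρ hW hW' h = X.homOfLE h ≫ locQ ρ hW := by
  rw [Scheme.toSpecΓ_naturality_assoc, Category.assoc, locMap, ← Spec.map_comp, ← Spec.map_comp]
  rfl

theorem locMap_self {W : X.Opens} (hW : IsStable ρ W) : locMap ρ hW hW le_rfl = 𝟙 _ := by
  rw [locMap, ← Spec.map_id]
  congr 1
  ext a
  show (X.homOfLE (le_refl W)).appTop a.1 = a.1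
  rw [Scheme.homOfLE_rfl]
  rfl

theorem locMap_comp {W W' W'' : X.Opens} (hW : IsStable ρ W) (hW' : IsStable ρ W') (hW'' : IsStable ρ W'')
    (h : W' ≤ W) (h' : W'' ≤ W') :
    locMap ρ hW' hW'' h' ≫ locMap ρ hW hW' h = locMap ρ hW hW'' (h'.trans h) := by
  rw [locMap, locMap, locMap, ← Spec.map_comp]
  congr 1
  ext a
  show (X.homOfLE h').appTop ((X.homOfLE h).appTop a.1) = (X.homOfLE (h'.trans h)).appTop a.1
  rw [← ConcreteCategory.comp_apply, ← Scheme.Hom.comp_appTop, Scheme.homOfLE_homOfLE]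

theorem preimage_image_locQ [Finite G] {W : X.Opens} (hW : IsStable ρ W) (hWa : IsAffineOpen W) {W' : X.Opens}
    (hW' : IsStable ρ W') :
    locQ ρ hW ⁻¹' (locQ ρ hW '' (W.ι ⁻¹ᵁ W' : W.toScheme.Opens)) = (W.ι ⁻¹ᵁ W' : W.toScheme.Opens) := by
  refine Set.Subset.antisymm (fun z ⟨w, hw, hwz⟩ => ?_) (Set.subset_preimage_image _ _)
  obtain ⟨g, rfl⟩ := (eq_iff (isQuot_locQ ρ hW hWa) w z).mp hwz
  show W.ι ((resAct ρ hW g).hom w) ∈ W'
  rw [← Scheme.Hom.comp_apply, resAct_ι, Scheme.Hom.comp_apply]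
  exact hW' g hw

theorem isOpenImmersion_locMap [Finite G] {W W' : X.Opens} (hW : IsStable ρ W) (hWa : IsAffineOpen W)
    (hW' : IsStable ρ W') (hWa' : IsAffineOpen W') (h : W' ≤ W) :
    IsOpenImmersion (locMap ρ hW hW' h) ∧
      locQ ρ hW ⁻¹' Set.range (locMap ρ hW hW' h) = W.ι ⁻¹' (W' : Set X) := by
  have hq := isQuot_locQ ρ hW hWa
  have hq' := isQuot_locQ ρ hW' hWa'
  let O := W.ι ⁻¹ᵁ W'
  have hsat := preimage_image_locQ ρ hW hWa hW'
  let V : (Spec (CommRingCat.of (invFun ρ hW))).Opens := ⟨locQ ρ hW '' O, by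
    rw [← (isQuotientMap hq).isOpen_preimage, hsat]; exact O.isOpen⟩
  have hV : locQ ρ hW ⁻¹ᵁ V = O := Opens.ext hsat
  have hVs : IsStable (resAct ρ hW) (locQ ρ hW ⁻¹ᵁ V) := fun g =>
    SGA1.preimage_le_of_inv _ _ hq.inv g V
  have hqV := Groth.Agent.S13606.result (resAct ρ hW) (locQ ρ hW) hq V (resAct _ hVs) (resAct_ι _ hVs)
  let e : (locQ ρ hW ⁻¹ᵁ V).toScheme ⟶ W'.toScheme :=
    IsOpenImmersion.lift W'.ι ((locQ ρ hW ⁻¹ᵁ V).ι ≫ W.ι) (by
      rw [Scheme.Opens.range_ι]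
      rintro _ ⟨z, rfl⟩
      rw [Scheme.Hom.comp_apply]
      exact (hV ▸ z.2 : (locQ ρ hW ⁻¹ᵁ V).ι z ∈ O))
  have he : e ≫ W'.ι = (locQ ρ hW ⁻¹ᵁ V).ι ≫ W.ι := IsOpenImmersion.lift_fac _ _ _
  have he' : e ≫ X.homOfLE h = (locQ ρ hW ⁻¹ᵁ V).ι := by
    rw [← cancel_mono W.ι, Category.assoc, Scheme.homOfLE_ι, he]
  let e' : W'.toScheme ⟶ (locQ ρ hW ⁻¹ᵁ V).toScheme :=
    IsOpenImmersion.lift (locQ ρ hW ⁻¹ᵁ V).ι (X.homOfLE h) (by
      rw [Scheme.Opens.range_ι, hV]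
      rintro _ ⟨z, rfl⟩
      show W.ι (X.homOfLE h z) ∈ W'
      rw [← Scheme.Hom.comp_apply, Scheme.homOfLE_ι]
      exact z.2)
  have he'' : e' ≫ (locQ ρ hW ⁻¹ᵁ V).ι = X.homOfLE h := IsOpenImmersion.lift_fac _ _ _
  have hee : e' ≫ e = 𝟙 _ := by
    rw [← cancel_mono W'.ι, Category.assoc, he, reassoc_of% he'', Scheme.homOfLE_ι, Category.id_comp]
  obtain ⟨n, hn, -⟩ := Groth.Agent.S2925.result _ _ hqV _ (e ≫ locQ ρ hW') (fun g => by
    have : (resAct (resAct ρ hW) hVs g).hom ≫ e = e ≫ (resAct ρ hW' g).hom := by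
      rw [← cancel_mono W'.ι, Category.assoc, he, reassoc_of% (resAct_ι (resAct ρ hW) hVs g), resAct_ι,
        Category.assoc, resAct_ι, reassoc_of% he]
    rw [reassoc_of% this, hq'.inv])
  have hr : Set.range (locMap ρ hW hW' h) ⊆ Set.range V.ι := by
    rw [Scheme.Opens.range_ι]
    rintro _ ⟨y, rfl⟩
    obtain ⟨z, rfl⟩ := (surjective hq').surj y
    refine ⟨X.homOfLE h z, ?_, ?_⟩
    · show W.ι (X.homOfLE h z) ∈ W'
      rw [← Scheme.Hom.comp_apply, Scheme.homOfLE_ι]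
      exact z.2
    · rw [← Scheme.Hom.comp_apply, ← locQ_locMap, Scheme.Hom.comp_apply]
  let m := IsOpenImmersion.lift V.ι (locMap ρ hW hW' h) hr
  have hm : m ≫ V.ι = locMap ρ hW hW' h := IsOpenImmersion.lift_fac _ _ _
  have h1 : e' ≫ (locQ ρ hW ∣_ V) = locQ ρ hW' ≫ m := by
    rw [← cancel_mono V.ι, Category.assoc, morphismRestrict_ι, reassoc_of% he'', Category.assoc, hm, locQ_locMap]
  have hnm : n ≫ m = 𝟙 _ := by
    refine hom_ext (surjective hqV).surj hqV.injective _ _ ?_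
    rw [← Category.assoc, hn, Category.comp_id, ← cancel_mono V.ι, Category.assoc (e ≫ locQ ρ hW'), hm,
      Category.assoc e, locQ_locMap, reassoc_of% he', morphismRestrict_ι]
  have hmn : m ≫ n = 𝟙 _ := by
    refine hom_ext (surjective hq').surj hq'.injective _ _ ?_
    rw [← Category.assoc, ← h1, Category.assoc, hn, reassoc_of% hee, Category.comp_id]
  haveI : IsIso m := ⟨n, hmn, hnm⟩
  refine ⟨hm ▸ inferInstance, ?_⟩
  have : Set.range (locMap ρ hW hW' h) = (V : Set _) := by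
    rw [← hm, Scheme.Hom.comp_base, TopCat.coe_comp, Set.range_comp, Set.range_eq_univ.mpr m.surjective,
      Set.image_univ, Scheme.Opens.range_ι]
  rw [this]
  exact hsat

theorem exists_le [Finite G] {W W' : X.Opens} (hW : IsStable ρ W) (hWa : IsAffineOpen W) (hW' : IsStable ρ W')
    {x : X} (hx : x ∈ W) (hx' : x ∈ W') :
    ∃ L : X.Opens, IsAffineOpen L ∧ IsStable ρ L ∧ x ∈ L ∧ L ≤ W ∧ L ≤ W' := by
  haveI : IsAffine W.toScheme := hWa
  obtain ⟨f, hOf, hfW'⟩ := GrpdLib.exists_basicOpen_of_finite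
    (Set.range fun g : G => (⟨(ρ g).hom x, hW g hx⟩ : W.toScheme)) (Set.finite_range _) (W.ι ⁻¹ᵁ W') (by
      rintro _ ⟨g, rfl⟩
      exact hW' g hx')
  obtain ⟨L, hLa, hLs, hxL, hLC⟩ := exists_invariant_affine ρ x
    (((isAffineOpen_top W.toScheme).basicOpen f).image_of_isOpenImmersion W.ι)
    (fun g => ⟨_, hOf ⟨g, rfl⟩, rfl⟩)
  refine ⟨L, hLa, hLs, hxL, fun z hz => ?_, fun z hz => ?_⟩ <;> obtain ⟨w, hw, rfl⟩ := hLC hz
  · exact w.2
  · exact hfW' hw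

theorem mem_iff_of_stable {W : X.Opens} (hW : IsStable ρ W) (g : G) (x : X) : (ρ g).hom x ∈ W ↔ x ∈ W := by
  refine ⟨fun h => ?_, fun h => hW g h⟩
  have := hW g⁻¹ h
  show x ∈ W
  change (ρ g⁻¹).hom ((ρ g).hom x) ∈ W at this
  rwa [← Scheme.Hom.comp_apply, ← mul_hom, inv_mul_cancel, map_one] at this

/-- Stable affine opens. -/
def StabOpen : Type u := {W : X.Opens // IsStable ρ W ∧ IsAffineOpen W}

instance : Preorder (StabOpen ρ) := Preorder.lift Subtype.val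

variable [Finite G]

/-- The diagram of local quotients. -/
noncomputable def quotDiagram : StabOpen ρ ⥤ Scheme.{u} where
  obj W := Spec (CommRingCat.of (invFun ρ W.2.1))
  map {W' W} f := locMap ρ W.2.1 W'.2.1 (leOfHom f)
  map_id W := locMap_self ρ W.2.1
  map_comp {W'' W' W} f g := (locMap_comp ρ W.2.1 W'.2.1 W''.2.1 (leOfHom g) (leOfHom f)).symm

instance {i j : StabOpen ρ} (f : i ⟶ j) : IsOpenImmersion ((quotDiagram ρ).map f) :=
  (isOpenImmersion_locMap ρ j.2.1 j.2.2 i.2.1 i.2.2 (leOfHom f)).1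

theorem locMap_apply {i j : StabOpen ρ} (h : i ≤ j) (x : i.1.toScheme) :
    locMap ρ j.2.1 i.2.1 h (locQ ρ i.2.1 x) = locQ ρ j.2.1 (X.homOfLE h x) :=
  congrArg (fun f : i.1.toScheme ⟶ _ => f x) (locQ_locMap ρ j.2.1 i.2.1 h)

theorem ι_homOfLE {U V : X.Opens} (h : U ≤ V) (x : U.toScheme) : V.ι (X.homOfLE h x) = U.ι x :=
  congrArg (fun f : U.toScheme ⟶ X => f x) (Scheme.homOfLE_ι X h)

instance : (quotDiagram ρ ⋙ Scheme.forget).IsLocallyDirected := by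
  refine ⟨fun {i j k} fi fj xi xj hx => ?_⟩
  obtain ⟨x, rfl⟩ := (surjective (isQuot_locQ ρ i.2.1 i.2.2)).surj xi
  obtain ⟨z, rfl⟩ := (surjective (isQuot_locQ ρ j.2.1 j.2.2)).surj xj
  have hx' : locQ ρ k.2.1 (X.homOfLE (leOfHom fi) x) = locQ ρ k.2.1 (X.homOfLE (leOfHom fj) z) :=
    (locMap_apply ρ (leOfHom fi) x).symm.trans (Eq.trans hx (locMap_apply ρ (leOfHom fj) z))
  obtain ⟨g, hg⟩ := (eq_iff (isQuot_locQ ρ k.2.1 k.2.2) _ _).mp hx'
  have hg' : (ρ g).hom (i.1.ι x) = j.1.ι z := by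
    have := congrArg (fun w : k.1.toScheme => k.1.ι w) hg
    rw [← Scheme.Hom.comp_apply, resAct_ι, Scheme.Hom.comp_apply, ι_homOfLE, ι_homOfLE] at this
    exact this
  have hxj : i.1.ι x ∈ j.1 := (mem_iff_of_stable ρ j.2.1 g _).mp (hg' ▸ z.2)
  obtain ⟨L, hLa, hLs, hxL, hLi, hLj⟩ := exists_le ρ i.2.1 i.2.2 j.2.1 x.2 hxj
  refine ⟨⟨L, hLs, hLa⟩, homOfLE hLi, homOfLE hLj, locQ ρ hLs ⟨i.1.ι x, hxL⟩, ?_, ?_⟩
  · refine (locMap_apply ρ (i := ⟨L, hLs, hLa⟩) hLi _).trans (congrArg _ (i.1.ι.isOpenEmbedding.injective ?_))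
    exact ι_homOfLE hLi _
  · refine (locMap_apply ρ (i := ⟨L, hLs, hLa⟩) hLj _).trans
      ((eq_iff (isQuot_locQ ρ j.2.1 j.2.2) _ z).mpr ⟨g, j.1.ι.isOpenEmbedding.injective ?_⟩)
    rw [← Scheme.Hom.comp_apply, resAct_ι, Scheme.Hom.comp_apply, ι_homOfLE]
    exact hg'

/-- The quotient scheme. -/
noncomputable abbrev QuotScheme : Scheme.{u} := colimit (quotDiagram ρ)

variable (h : ∀ x : X, ∃ U : X.Opens, IsAffineOpen U ∧ ∀ g : G, (ρ g).hom x ∈ U)

include h in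
theorem exists_stabOpen (x : X) : ∃ W : StabOpen ρ, x ∈ W.1 := by
  obtain ⟨U, hU, hx⟩ := h x
  obtain ⟨W, hWa, hWs, hxW, -⟩ := exists_invariant_affine ρ x hU hx
  exact ⟨⟨W, hWs, hWa⟩, hxW⟩

/-- The cover by stable affine opens. -/
noncomputable def stabCover : X.OpenCover :=
  X.openCoverOfIsOpenCover (fun W : StabOpen ρ => W.1) (Opens.ext (Set.eq_univ_of_forall fun x => by
    obtain ⟨W, hW⟩ := exists_stabOpen ρ h x
    exact Opens.mem_iSup.2 ⟨W, hW⟩))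

theorem compat (i j : StabOpen ρ) :
    pullback.fst i.1.ι j.1.ι ≫ locQ ρ i.2.1 ≫ colimit.ι (quotDiagram ρ) i =
      pullback.snd i.1.ι j.1.ι ≫ locQ ρ j.2.1 ≫ colimit.ι (quotDiagram ρ) j := by
  refine Scheme.hom_ext_of_forall _ _ fun z => ?_
  let m : pullback i.1.ι j.1.ι ⟶ X := pullback.fst _ _ ≫ i.1.ι
  have hm : m = pullback.snd _ _ ≫ j.1.ι := pullback.condition
  have hzi : m z ∈ i.1 := ((pullback.fst i.1.ι j.1.ι) z).2
  have hzj : m z ∈ j.1 := by rw [hm]; exact ((pullback.snd i.1.ι j.1.ι) z).2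
  obtain ⟨L, hLa, hLs, hzL, hLi, hLj⟩ := exists_le ρ i.2.1 i.2.2 j.2.1 hzi hzj
  refine ⟨m ⁻¹ᵁ L, hzL, ?_⟩
  have h1 : (m ⁻¹ᵁ L).ι ≫ pullback.fst _ _ = (m ∣_ L) ≫ X.homOfLE hLi := by
    rw [← cancel_mono i.1.ι, Category.assoc, Category.assoc, Scheme.homOfLE_ι, morphismRestrict_ι]
  have h2 : (m ⁻¹ᵁ L).ι ≫ pullback.snd _ _ = (m ∣_ L) ≫ X.homOfLE hLj := by
    rw [← cancel_mono j.1.ι, Category.assoc, Category.assoc, Scheme.homOfLE_ι, morphismRestrict_ι, ← hm]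
  have w1 : locMap ρ i.2.1 hLs hLi ≫ colimit.ι (quotDiagram ρ) i = colimit.ι (quotDiagram ρ) ⟨L, hLs, hLa⟩ :=
    colimit.w (quotDiagram ρ) (homOfLE hLi : (⟨L, hLs, hLa⟩ : StabOpen ρ) ⟶ i)
  have w2 : locMap ρ j.2.1 hLs hLj ≫ colimit.ι (quotDiagram ρ) j = colimit.ι (quotDiagram ρ) ⟨L, hLs, hLa⟩ :=
    colimit.w (quotDiagram ρ) (homOfLE hLj : (⟨L, hLs, hLa⟩ : StabOpen ρ) ⟶ j)
  have q1 : X.homOfLE hLi ≫ locQ ρ i.2.1 ≫ colimit.ι (quotDiagram ρ) i =
      locQ ρ hLs ≫ colimit.ι (quotDiagram ρ) ⟨L, hLs, hLa⟩ :=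
    ((Category.assoc _ _ _).symm.trans (congrArg (· ≫ colimit.ι (quotDiagram ρ) i) (locQ_locMap ρ i.2.1 hLs hLi).symm)).trans
      ((Category.assoc _ _ _).trans (congrArg (locQ ρ hLs ≫ ·) w1))
  have q2 : X.homOfLE hLj ≫ locQ ρ j.2.1 ≫ colimit.ι (quotDiagram ρ) j =
      locQ ρ hLs ≫ colimit.ι (quotDiagram ρ) ⟨L, hLs, hLa⟩ :=
    ((Category.assoc _ _ _).symm.trans (congrArg (· ≫ colimit.ι (quotDiagram ρ) j) (locQ_locMap ρ j.2.1 hLs hLj).symm)).trans
      ((Category.assoc _ _ _).trans (congrArg (locQ ρ hLs ≫ ·) w2))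
  calc (m ⁻¹ᵁ L).ι ≫ pullback.fst i.1.ι j.1.ι ≫ locQ ρ i.2.1 ≫ colimit.ι (quotDiagram ρ) i
      = (m ∣_ L) ≫ X.homOfLE hLi ≫ locQ ρ i.2.1 ≫ colimit.ι (quotDiagram ρ) i :=
        (Category.assoc _ _ _).symm.trans ((congrArg (· ≫ _) h1).trans (Category.assoc _ _ _))
    _ = (m ∣_ L) ≫ X.homOfLE hLj ≫ locQ ρ j.2.1 ≫ colimit.ι (quotDiagram ρ) j := by rw [q1, q2]
    _ = _ := ((Category.assoc _ _ _).symm.trans ((congrArg (· ≫ _) h2.symm).trans (Category.assoc _ _ _)))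

/-- The quotient map. -/
noncomputable def quotMap : X ⟶ QuotScheme ρ :=
  (stabCover ρ h).glueMorphisms (fun W : StabOpen ρ => locQ ρ W.2.1 ≫ colimit.ι (quotDiagram ρ) W) (compat ρ)

theorem ι_quotMap (W : StabOpen ρ) :
    W.1.ι ≫ quotMap ρ h = locQ ρ W.2.1 ≫ colimit.ι (quotDiagram ρ) W :=
  (stabCover ρ h).ι_glueMorphisms (fun W : StabOpen ρ => locQ ρ W.2.1 ≫ colimit.ι (quotDiagram ρ) W) (compat ρ) W

theorem quotMap_ι_apply (W : StabOpen ρ) (x : W.1.toScheme) :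
    quotMap ρ h (W.1.ι x) = colimit.ι (quotDiagram ρ) W (locQ ρ W.2.1 x) :=
  congrArg (fun f : W.1.toScheme ⟶ QuotScheme ρ => f x) (ι_quotMap ρ h W)

theorem mem_of_quotMap_eq (W : StabOpen ρ) (y : (quotDiagram ρ).obj W) (x : X)
    (hx : quotMap ρ h x = colimit.ι (quotDiagram ρ) W y) : x ∈ W.1 := by
  obtain ⟨j, hj⟩ := exists_stabOpen ρ h x
  obtain ⟨k, fj, fi, w, hwj, -⟩ := (Scheme.IsLocallyDirected.ι_eq_ι_iff (quotDiagram ρ)).1
    ((quotMap_ι_apply ρ h j ⟨x, hj⟩).symm.trans hx)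
  obtain ⟨w, rfl⟩ := (surjective (isQuot_locQ ρ k.2.1 k.2.2)).surj w
  obtain ⟨g, hg⟩ := (eq_iff (isQuot_locQ ρ j.2.1 j.2.2) _ _).1 ((locMap_apply ρ (leOfHom fj) w).symm.trans hwj)
  have : (ρ g).hom (k.1.ι w) = x := by
    have := congrArg (fun z : j.1.toScheme => j.1.ι z) hg
    rw [← Scheme.Hom.comp_apply, resAct_ι, Scheme.Hom.comp_apply, ι_homOfLE] at this
    exact this
  rw [← this]
  exact W.2.1 g ((leOfHom fi : k.1 ≤ W.1) w.2)

theorem isPullback_quotMap (W : StabOpen ρ) :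
    IsPullback (locQ ρ W.2.1) W.1.ι (colimit.ι (quotDiagram ρ) W) (quotMap ρ h) := by
  refine IsOpenImmersion.isPullback _ _ _ _ (ι_quotMap ρ h W) ?_
  ext x
  constructor
  · rintro ⟨y, hy⟩
    exact ⟨⟨x, mem_of_quotMap_eq ρ h W y x hy.symm⟩, rfl⟩
  · rintro ⟨x, rfl⟩
    exact ⟨locQ ρ W.2.1 x, (quotMap_ι_apply ρ h W x).symm⟩

theorem quotMap_inv (g : G) : (ρ g).hom ≫ quotMap ρ h = quotMap ρ h := by
  refine (stabCover ρ h).hom_ext _ _ fun (W : StabOpen ρ) => ?_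
  show W.1.ι ≫ (ρ g).hom ≫ quotMap ρ h = W.1.ι ≫ quotMap ρ h
  rw [← reassoc_of% (resAct_ι ρ W.2.1 g), ι_quotMap]
  exact (Category.assoc _ _ _).symm.trans (congrArg (· ≫ _) ((isQuot_locQ ρ W.2.1 W.2.2).inv g))

theorem isAffineHom_quotMap : IsAffineHom (quotMap ρ h) := by
  refine IsZariskiLocalAtTarget.of_openCover (P := @IsAffineHom.{u})
    (Scheme.IsLocallyDirected.openCover (quotDiagram ρ)) fun (W : StabOpen ρ) => ?_
  haveI := (isQuot_locQ ρ W.2.1 W.2.2).affine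
  let sq := (isPullback_quotMap ρ h W).flip
  show IsAffineHom (pullback.snd (quotMap ρ h) (colimit.ι (quotDiagram ρ) W))
  rw [← sq.isoPullback_inv_snd]
  infer_instance

theorem isIso_appLE_image {A B : Scheme.{u}} (f : A ⟶ B) [IsOpenImmersion f] (U : B.Opens) (V : A.Opens)
    (e : V ≤ f ⁻¹ᵁ U) (h : U = f ''ᵁ V) : IsIso (f.appLE U V e) := by
  subst h
  rw [← Scheme.Hom.appIso_hom']
  infer_instance

theorem isQuot_quotMap : SGA1.IsQuot ρ (quotMap ρ h) := by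
  haveI := isAffineHom_quotMap ρ h
  let p := quotMap ρ h
  let V : StabOpen ρ → (QuotScheme ρ).Opens := fun W => colimit.ι (quotDiagram ρ) W ''ᵁ ⊤
  have hVaff : ∀ W, IsAffineOpen (V W) := fun W =>
    (isAffineOpen_top (Spec (CommRingCat.of (invFun ρ W.2.1)))).image_of_isOpenImmersion (colimit.ι (quotDiagram ρ) W)
  have hpre : ∀ W : StabOpen ρ, p ⁻¹ᵁ V W = W.1.ι ''ᵁ ⊤ := fun W => by
    ext x
    constructor
    · rintro ⟨y, -, hy⟩
      exact ⟨⟨x, mem_of_quotMap_eq ρ h W y x hy.symm⟩, trivial, rfl⟩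
    · rintro ⟨x, -, rfl⟩
      exact ⟨_, trivial, (quotMap_ι_apply ρ h W x).symm⟩
  have eX : ∀ W : StabOpen ρ, (⊤ : W.1.toScheme.Opens) ≤ W.1.ι ⁻¹ᵁ (p ⁻¹ᵁ V W) := fun W => by
    rw [hpre]; exact fun x _ => ⟨x, trivial, rfl⟩
  have eY : ∀ W : StabOpen ρ, (⊤ : Scheme.Opens _) ≤ colimit.ι (quotDiagram ρ) W ⁻¹ᵁ V W :=
    fun W x _ => ⟨x, trivial, rfl⟩
  have hkey : ∀ (W : StabOpen ρ) (b : Γ(QuotScheme ρ, V W)),
      W.1.ι.appLE _ ⊤ (eX W) (p.app (V W) b) =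
        (locQ ρ W.2.1).appTop ((colimit.ι (quotDiagram ρ) W).appLE (V W) ⊤ (eY W) b) := fun W b => by
    rw [Scheme.Hom.appTop, Scheme.Hom.app_eq_appLE, Scheme.Hom.app_eq_appLE]
    refine ((CommRingCat.comp_apply _ _ b).symm.trans ?_).trans (CommRingCat.comp_apply _ _ b)
    rw [Scheme.Hom.appLE_comp_appLE, Scheme.Hom.appLE_comp_appLE]
    exact congrArg (fun φ : Γ(QuotScheme ρ, V W) ⟶ Γ(W.1.toScheme, ⊤) => φ b)
      (appLE_congr _ _ _ _ (ι_quotMap ρ h W))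
  have hbX : ∀ W : StabOpen ρ, Function.Bijective (W.1.ι.appLE _ ⊤ (eX W)).hom := fun W =>
    haveI := isIso_appLE_image W.1.ι _ ⊤ (eX W) (hpre W)
    ConcreteCategory.bijective_of_isIso _
  have hbY : ∀ W : StabOpen ρ, Function.Bijective ((colimit.ι (quotDiagram ρ) W).appLE (V W) ⊤ (eY W)).hom := fun W =>
    haveI := isIso_appLE_image (colimit.ι (quotDiagram ρ) W) _ ⊤ (eY W) rfl
    ConcreteCategory.bijective_of_isIso _
  refine isQuot_of_cover ρ p (quotMap_inv ρ h) V hVaff (fun y => ?_) (fun W b b' hbb => ?_) (fun W s hs => ?_)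
  · obtain ⟨W, y, rfl⟩ := Scheme.IsLocallyDirected.ι_jointly_surjective (quotDiagram ρ) y
    exact ⟨W, y, trivial, rfl⟩
  · apply (hbY W).1
    apply (isQuot_locQ ρ W.2.1 W.2.2).injective ⊤
    exact ((hkey W b).symm.trans (congrArg (W.1.ι.appLE _ ⊤ (eX W)).hom hbb)).trans (hkey W b')
  · have ht : W.1.ι.appLE _ ⊤ (eX W) s ∈ invFun ρ W.2.1 := fun g => by
      have hg : (ρ g).hom.appLE _ _ (SGA1.preimage_le_of_inv ρ p (quotMap_inv ρ h) g (V W)) s = s := by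
        have := hs g⁻¹
        simp only [FEtQuot.act, inv_inv] at this
        exact this
      rw [Scheme.Hom.appTop, Scheme.Hom.app_eq_appLE]
      refine ((CommRingCat.comp_apply _ _ s).symm.trans ?_).trans
        ((CommRingCat.comp_apply ((ρ g).hom.appLE _ _ (SGA1.preimage_le_of_inv ρ p (quotMap_inv ρ h) g (V W))) (W.1.ι.appLE _ ⊤ (eX W)) s).trans
          (congrArg (W.1.ι.appLE _ ⊤ (eX W)).hom hg))
      rw [Scheme.Hom.appLE_comp_appLE, Scheme.Hom.appLE_comp_appLE]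
      exact congrArg (fun φ : Γ(X, p ⁻¹ᵁ V W) ⟶ Γ(W.1.toScheme, ⊤) => φ s) (appLE_congr _ _ _ _ (resAct_ι ρ W.2.1 g))
    obtain ⟨a, ha⟩ := ((isQuot_locQ ρ W.2.1 W.2.2).range_iff ⊤ (W.1.ι.appLE _ ⊤ (eX W) s)).mpr fun g => by
      have := ht g
      rw [Scheme.Hom.appTop, Scheme.Hom.app_eq_appLE] at this
      exact this
    obtain ⟨b, rfl⟩ := (hbY W).2 a
    exact ⟨b, (hbX W).1 ((hkey W b).trans ha)⟩

end Groth.Agent.SGA1Quot
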