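import Groth.Agent.SGA1Quot.AffineQuot
import Groth.Agent.SGA1Quot.Factor
import Mathlib.Algebra.Category.Ring.Constructions
import Mathlib.AlgebraicGeometry.Morphisms.Flat

/-!
# Quotients by finite groups commute with flat base change
-/

set_option autoImplicit false
set_option linter.style.haveILetI false
set_option backward.isDefEq.respectTransparency.types false

universe u

open CategoryTheory CategoryTheory.Limits AlgebraicGeometry TopologicalSpace Opposite TensorProduct

namespace Groth.Agent.SGA1Quot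

attribute [local instance] Algebra.TensorProduct.rightAlgebra

theorem invariants_of_isPushout {G : Type u} [Finite G] {R B S B' : CommRingCat.{u}} {ι : R ⟶ B} {j : R ⟶ S}
    {t : B ⟶ B'} {s : S ⟶ B'} (h : IsPushout ι j t s) (hj : j.hom.Flat) (hι : Function.Injective ι.hom)
    (σ : G → (B ⟶ B)) (hσ : ∀ g, ι ≫ σ g = ι) (hfix : ∀ b, (∀ g, σ g b = b) → ∃ r, ι r = b)
    (σ' : G → (B' ⟶ B')) (ht : ∀ g, t ≫ σ' g = σ g ≫ t) (hs : ∀ g, s ≫ σ' g = s) :
    Function.Injective s.hom ∧ ∀ b', (∀ g, σ' g b' = b') → ∃ a, s a = b' := by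
  classical
  cases nonempty_fintype G
  letI := ι.hom.toAlgebra
  letI := j.hom.toAlgebra
  letI := t.hom.toAlgebra
  letI := s.hom.toAlgebra
  letI : Algebra R B' := (j ≫ s).hom.toAlgebra
  haveI : IsScalarTower R S B' := IsScalarTower.of_algebraMap_eq fun x => rfl
  haveI : IsScalarTower R B B' := IsScalarTower.of_algebraMap_eq fun x => by
    show (j ≫ s) x = (ι ≫ t) x
    rw [h.w]
  haveI : Module.Flat R S := hj
  haveI : Algebra.IsPushout R S B B' := CommRingCat.isPushout_iff_isPushout.mp h.flip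
  let e := Algebra.IsPushout.equiv R S B B'
  let ψ : B →ₗ[R] (G → B) :=
    { toFun := fun b g => σ g b - b
      map_add' := fun b b' => funext fun g => by simp [add_sub_add_comm]
      map_smul' := fun r b => funext fun g => by
        show σ g (ι r * b) - ι r * b = ι r * (σ g b - b)
        rw [map_mul, show σ g (ι r) = ι r from congrArg (fun φ : R ⟶ B => φ r) (hσ g), mul_sub] }
  have hex : Function.Exact (Algebra.linearMap R B) ψ := fun b => by
    constructor
    · intro hb
      exact hfix b fun g => sub_eq_zero.mp (congrFun hb g)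
    · rintro ⟨r, rfl⟩
      funext g
      exact sub_eq_zero.mpr (congrArg (fun φ : R ⟶ B => φ r) (hσ g))
  have hei : ∀ a : S, e (a ⊗ₜ (1 : B)) = s a := fun a => by
    rw [show e (a ⊗ₜ (1 : B)) = _ from Algebra.IsPushout.equiv_tmul (R := R) (S := S) (R' := B) (S' := B') a 1, map_one, mul_one]
    rfl
  constructor
  · intro a a' haa
    have h1 : (Algebra.linearMap R B).lTensor S (a ⊗ₜ (1 : R)) = (Algebra.linearMap R B).lTensor S (a' ⊗ₜ (1 : R)) := by
      apply e.injective
      simp only [LinearMap.lTensor_tmul, Algebra.linearMap_apply, map_one, hei]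
      exact haa
    have h2 := Module.Flat.lTensor_preserves_injective_linearMap (M := S) (Algebra.linearMap R B) hι h1
    simpa using congrArg (TensorProduct.rid R S) h2
  · intro b' hb'
    obtain ⟨x, rfl⟩ := e.surjective b'
    have key : ∀ (g : G) (x : S ⊗[R] B),
        e (((LinearMap.proj g).comp ψ).lTensor S x) = σ' g (e x) - e x := fun g x => by
      induction x with
      | zero => simp
      | add u v hu hv => rw [map_add, map_add, hu, hv, map_add, map_add]; abel
      | tmul a b =>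
        rw [LinearMap.lTensor_tmul, Algebra.IsPushout.equiv_tmul, Algebra.IsPushout.equiv_tmul]
        show s a * t (σ g b - b) = σ' g (s a * t b) - s a * t b
        rw [map_mul, show σ' g (s a) = s a from congrArg (fun φ : S ⟶ B' => φ a) (hs g),
          show σ' g (t b) = t (σ g b) from congrArg (fun φ : B ⟶ B' => φ b) (ht g), map_sub, mul_sub]
    have h0 : ψ.lTensor S x = 0 := by
      apply (TensorProduct.piRight R R S (fun _ : G => B)).injective
      funext g
      have : (TensorProduct.piRight R R S (fun _ : G => B)) (ψ.lTensor S x) g = ((LinearMap.proj g).comp ψ).lTensor S x := by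
        generalize x = y
        induction y with
        | zero => simp
        | add u v hu hv => simp only [map_add, Pi.add_apply, hu, hv]
        | tmul a b => simp
      rw [this, map_zero, Pi.zero_apply]
      apply e.injective
      rw [key, hb' g, sub_self, map_zero]
    obtain ⟨y, hy⟩ := (Module.Flat.lTensor_exact S hex x).mp h0
    refine ⟨TensorProduct.rid R S y, ?_⟩
    rw [← hei, ← hy]
    congr 1
    clear hy
    induction y with
    | zero => simp
    | add u v hu hv => rw [map_add, map_add, add_tmul, hu, hv]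
    | tmul a r =>
      rw [TensorProduct.rid_tmul, LinearMap.lTensor_tmul, Algebra.linearMap_apply, smul_tmul,
        Algebra.algebraMap_eq_smul_one]

theorem isQuot_baseChange {X Y X' Y' : Scheme.{u}} {G : Type u} [Group G] [Finite G] (ρ : G →* Aut X)
    (p : X ⟶ Y) (hp : SGA1.IsQuot ρ p) (qY : Y' ⟶ Y) [Flat qY]
    (pX : X' ⟶ X) (p' : X' ⟶ Y') (hX : IsPullback pX p' p qY)
    (ρ' : G →* Aut X') (hρ₁ : ∀ g : G, (ρ' g).hom ≫ pX = pX ≫ (ρ g).hom) (hρ₂ : ∀ g : G, (ρ' g).hom ≫ p' = p') :
    SGA1.IsQuot ρ' p' := by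
  haveI := hp.affine
  haveI : IsAffineHom p' := MorphismProperty.of_isPullback (P := @IsAffineHom) hX hp.affine
  let I := {VW : Y.Opens × Y'.Opens // IsAffineOpen VW.1 ∧ IsAffineOpen VW.2 ∧ VW.2 ≤ qY ⁻¹ᵁ VW.1}
  have hle : ∀ i : I, p' ⁻¹ᵁ i.1.2 ≤ pX ⁻¹ᵁ (p ⁻¹ᵁ i.1.1) := fun i => by
    rw [← Scheme.Hom.comp_preimage, hX.w, Scheme.Hom.comp_preimage]
    exact p'.preimage_mono i.2.2.2
  have hpo : ∀ i : I, IsPushout (p.app i.1.1) (qY.appLE i.1.1 i.1.2 i.2.2.2)
      (pX.appLE (p ⁻¹ᵁ i.1.1) (p' ⁻¹ᵁ i.1.2) (hle i)) (p'.app i.1.2) := fun i => by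
    have := (isIso_pushoutSection_iff hX i.2.2.2 (le_refl (p ⁻¹ᵁ i.1.1)) (inf_eq_right.mpr (hle i)).symm).mp
      (isIso_pushoutSection_of_isAffineOpen hX i.2.2.2 (le_refl (p ⁻¹ᵁ i.1.1)) _ i.2.1 i.2.2.1 (i.2.1.preimage p))
    simpa only [Scheme.Hom.app_eq_appLE] using this
  have main : ∀ i : I, Function.Injective (p'.app i.1.2).hom ∧
      ∀ b', (∀ g : G, (ρ' g).hom.appLE _ _ (SGA1.preimage_le_of_inv ρ' p' hρ₂ g i.1.2) b' = b') →
        ∃ a, p'.app i.1.2 a = b' := fun i => by
    refine invariants_of_isPushout (hpo i) (qY.flat_appLE i.2.1 i.2.2.1 i.2.2.2) (hp.injective _)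
      (fun g => (ρ g).hom.appLE _ _ (SGA1.preimage_le_of_inv ρ p hp.inv g i.1.1)) (fun g => ?_)
      (fun b hb => (hp.range_iff _ b).mpr hb)
      (fun g => (ρ' g).hom.appLE _ _ (SGA1.preimage_le_of_inv ρ' p' hρ₂ g i.1.2)) (fun g => ?_) (fun g => ?_)
    · rw [Scheme.Hom.app_eq_appLE, Scheme.Hom.appLE_comp_appLE]
      exact appLE_congr _ _ _ _ (hp.inv g)
    · rw [Scheme.Hom.appLE_comp_appLE, Scheme.Hom.appLE_comp_appLE]
      exact appLE_congr _ _ _ _ (hρ₁ g)
    · rw [Scheme.Hom.app_eq_appLE, Scheme.Hom.appLE_comp_appLE]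
      exact appLE_congr _ _ _ _ (hρ₂ g)
  refine isQuot_of_cover ρ' p' hρ₂ (fun i : I => i.1.2) (fun i => i.2.2.1) (fun y => ?_) (fun i => (main i).1)
    (fun i s hs => ?_)
  · obtain ⟨V, hV, hyV, -⟩ := exists_isAffineOpen_mem_and_subset (x := qY y) (U := (⊤ : Y.Opens)) trivial
    obtain ⟨W, hW, hyW, hWV⟩ := exists_isAffineOpen_mem_and_subset (x := y) (U := qY ⁻¹ᵁ V) hyV
    exact ⟨⟨(V, W), hV, hW, hWV⟩, hyW⟩
  · refine (main i).2 s fun g => ?_
    have := hs g⁻¹
    simp only [FEtQuot.act, inv_inv] at this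
    exact this

end Groth.Agent.SGA1Quot
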