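import Groth.Prelude.Def_SGA1
import Groth.Agent.AlgSpLib.SheafCoprod2
import Mathlib.AlgebraicGeometry.Morphisms.Finite
import Mathlib.AlgebraicGeometry.Morphisms.UnderlyingMap
import Mathlib.AlgebraicGeometry.PullbackCarrier
import Mathlib.CategoryTheory.Sites.Hypercover.Zero
import Mathlib.FieldTheory.IsAlgClosed.AlgebraicClosure
import Mathlib.Topology.NoetherianSpace

/-!
# Finite covers with a group acting transitively on geometric points
-/

set_option autoImplicit false
set_option linter.style.haveILetI false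
set_option backward.isDefEq.respectTransparency false
set_option backward.isDefEq.respectTransparency.types false

universe u w

open CategoryTheory CategoryTheory.Limits AlgebraicGeometry TopologicalSpace Opposite

namespace Groth.Agent.SGA1Quot.GeomTrans

theorem isFinite_sigmaDesc {T : Scheme.{u}} {G : Type u} [Finite G] {W : G → Scheme.{u}} (k : ∀ g, W g ⟶ T)
    (hk : ∀ g, IsFinite (k g)) : IsFinite (Sigma.desc k) := by
  obtain ⟨n, ⟨e⟩⟩ := Finite.exists_equiv_fin G
  haveI := AlgSpLib.isFinite_sigmaDesc (fun i => k (e.symm i)) fun i => hk _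
  let a : (∐ fun i => W (e.symm i)) ⟶ ∐ W := Sigma.desc fun i => Sigma.ι W (e.symm i)
  let b : (∐ W) ⟶ ∐ fun i => W (e.symm i) :=
    Sigma.desc fun g => eqToHom (congrArg W (e.symm_apply_apply g).symm) ≫ Sigma.ι (fun i => W (e.symm i)) (e g)
  have hab : b ≫ a = 𝟙 _ := by
    refine Sigma.hom_ext _ _ fun g => ?_
    simp only [b, a, Sigma.ι_desc_assoc, Category.assoc, Sigma.ι_desc, Category.comp_id]
    exact Sigma.eqToHom_comp_ι W (e.symm_apply_apply g).symm
  have hba : a ≫ b = 𝟙 _ := by
    refine Sigma.hom_ext _ _ fun i => ?_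
    simp only [b, a, Sigma.ι_desc_assoc, Sigma.ι_desc, Category.comp_id]
    exact Sigma.eqToHom_comp_ι (fun i => W (e.symm i)) (e.apply_symm_apply i).symm
  haveI : IsIso b := ⟨a, hab, hba⟩
  have : Sigma.desc k = b ≫ Sigma.desc fun i => k (e.symm i) := by
    refine Sigma.hom_ext _ _ fun g => ?_
    simp only [b, Sigma.ι_desc_assoc, Category.assoc, Sigma.ι_desc]
    generalize_proofs pf
    revert pf
    generalize e.symm (e g) = g', e.symm_apply_apply g = hg
    intro pf
    subst hg
    simp
  rw [this]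
  infer_instance

variable {X S : Scheme.{u}} (q : X ⟶ S) {G : Type u} [Group G] (ρ : G →* Aut X)
  (htrans : ∀ (Ω : Type u) [Field Ω] [IsAlgClosed Ω] (τ₁ τ₂ : Spec (CommRingCat.of Ω) ⟶ X),
    τ₁ ≫ q = τ₂ ≫ q → ∃ g : G, τ₁ ≫ (ρ g).hom = τ₂)

/-- A geometric point at a point. -/
noncomputable def geomPt {Z : Scheme.{u}} (z : Z) : Spec (CommRingCat.of (AlgebraicClosure (Z.residueField z))) ⟶ Z :=
  Spec.map (CommRingCat.ofHom (algebraMap (Z.residueField z) (AlgebraicClosure (Z.residueField z)))) ≫
    Z.fromSpecResidueField z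

theorem geomPt_apply {Z : Scheme.{u}} (z : Z) (a) : geomPt z a = z := by
  rw [geomPt, Scheme.Hom.comp_apply]
  exact Scheme.fromSpecResidueField_apply z _

include htrans in
theorem exists_smul_eq {x y : X} (h : q x = q y) : ∃ g : G, (ρ g).hom x = y := by
  obtain ⟨z, hz1, hz2⟩ := Scheme.Pullback.exists_preimage_pullback (f := q) (g := q) x y h
  obtain ⟨g, hg⟩ := htrans _ (geomPt z ≫ pullback.fst q q) (geomPt z ≫ pullback.snd q q)
    (by rw [Category.assoc, Category.assoc, pullback.condition])
  have := congrArg (fun f : Spec (CommRingCat.of (AlgebraicClosure ((pullback q q).residueField z))) ⟶ X =>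
    f (IsLocalRing.closedPoint _)) hg
  simp only [Scheme.Hom.comp_apply, geomPt_apply, hz1, hz2] at this
  exact ⟨g, this⟩

variable [Finite G]

theorem image_isIrreducibleComponent (g : G) {T : Set X} (hT : T ∈ irreducibleComponents X) :
    (fun x => (ρ g).hom x) '' T ∈ irreducibleComponents X := by
  have h := hT
  let e := Scheme.homeoOfIso (ρ g)
  refine ⟨hT.1.image _ e.continuous.continuousOn, fun U hU hTU => ?_⟩
  have : T ⊆ e ⁻¹' U := fun x hx => hTU ⟨x, hx, rfl⟩
  have h2 := hT.2 (hU.preimage e.isOpenEmbedding (by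
    obtain ⟨x, hx⟩ := hT.1.nonempty
    exact ⟨e x, hTU ⟨x, hx, rfl⟩, ⟨x, rfl⟩⟩)) this
  intro u hu
  obtain ⟨x, rfl⟩ := e.surjective u
  exact ⟨x, h2 hu, rfl⟩

include htrans in
theorem components [IsNoetherian S] [IrreducibleSpace S] [IsFinite q] [Surjective q]
    (hρ : ∀ g : G, (ρ g).hom ≫ q = q) :
    (∀ T ∈ irreducibleComponents X, Set.image (fun x => q x) T = Set.univ) ∧
      ∀ T₁ ∈ irreducibleComponents X, ∀ T₂ ∈ irreducibleComponents X, ∃ g : G,
        Set.image (fun x => (ρ g).hom x) T₁ = T₂ := by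
  classical
  cases nonempty_fintype G
  haveI : IsLocallyNoetherian X := LocallyOfFiniteType.isLocallyNoetherian q
  haveI : CompactSpace X := QuasiCompact.compactSpace_of_compactSpace q
  haveI : IsNoetherian X := {}
  have hfin := TopologicalSpace.NoetherianSpace.finite_irreducibleComponents (α := X)
  -- a component dominating the base
  obtain ⟨T₀, hT₀, hT₀S⟩ : ∃ T ∈ irreducibleComponents X, Set.image (fun x => q x) T = Set.univ := by
    have hcov : (Set.univ : Set S) ⊆ ⋃ T ∈ hfin.toFinset, (fun x => q x) '' T := fun s _ => by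
      obtain ⟨x, rfl⟩ := Surjective.surj (f := q) s
      exact Set.mem_biUnion (hfin.mem_toFinset.mpr (irreducibleComponent_mem_irreducibleComponents x))
        ⟨x, mem_irreducibleComponent, rfl⟩
    obtain ⟨Z, hZ, hsub⟩ := isIrreducible_iff_sUnion_isClosed.mp (IrreducibleSpace.isIrreducible_univ S)
      (hfin.toFinset.image fun T => (fun x => q x) '' T) (by
        intro Z hZ
        obtain ⟨T, hT, rfl⟩ := Finset.mem_image.mp hZ
        exact q.isClosedMap _ (isClosed_of_mem_irreducibleComponents T (hfin.mem_toFinset.mp hT))) (by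
        simpa [Set.sUnion_image] using hcov)
    obtain ⟨T, hT, rfl⟩ := Finset.mem_image.mp hZ
    exact ⟨T, hfin.mem_toFinset.mp hT, Set.univ_subset_iff.mp hsub⟩
  have key : ∀ T ∈ irreducibleComponents X, ∃ g : G, Set.image (fun x => (ρ g).hom x) T₀ = T := by
    intro T hT
    obtain ⟨Z, hZ, hsub⟩ := isIrreducible_iff_sUnion_isClosed.mp hT.1
      (Finset.univ.image fun g : G => (fun x => (ρ g).hom x) '' T₀) (by
        intro Z hZ
        obtain ⟨g, -, rfl⟩ := Finset.mem_image.mp hZ
        exact isClosed_of_mem_irreducibleComponents _ (image_isIrreducibleComponent ρ g hT₀)) (by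
        intro x _
        obtain ⟨y, hy, hyx⟩ : q x ∈ Set.image (fun z => q z) T₀ := hT₀S ▸ Set.mem_univ _
        obtain ⟨g, hg⟩ := exists_smul_eq q ρ htrans hyx
        exact Set.mem_sUnion.mpr ⟨_, Finset.mem_coe.mpr (Finset.mem_image.mpr ⟨g, Finset.mem_univ g, rfl⟩), y, hy, hg⟩)
    obtain ⟨g, -, rfl⟩ := Finset.mem_image.mp hZ
    exact ⟨g, le_antisymm (hT.2 (image_isIrreducibleComponent ρ g hT₀).1 hsub) hsub⟩
  refine ⟨fun T hT => ?_, fun T₁ h₁ T₂ h₂ => ?_⟩
  · obtain ⟨g, rfl⟩ := key T hT
    rw [Set.image_image]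
    exact (Set.image_congr fun x _ => by rw [← Scheme.Hom.comp_apply, hρ]).trans hT₀S
  · obtain ⟨g₁, rfl⟩ := key T₁ h₁
    obtain ⟨g₂, rfl⟩ := key T₂ h₂
    refine ⟨g₂ * g₁⁻¹, ?_⟩
    rw [Set.image_image]
    refine Set.image_congr fun x _ => ?_
    rw [← Scheme.Hom.comp_apply, ← Iso.trans_hom, ← Aut.Aut_mul_def, ← map_mul, inv_mul_cancel_right]

include htrans in
theorem translates {Y : Scheme.{u}} [IsFinite q] (r : Y ⟶ X)
    (υ : (∐ fun _ : G => Y) ⟶ pullback (r ≫ q) q)
    (h₁ : ∀ σ : G, Sigma.ι (fun _ : G => Y) σ ≫ υ ≫ pullback.fst (r ≫ q) q = 𝟙 Y)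
    (h₂ : ∀ σ : G, Sigma.ι (fun _ : G => Y) σ ≫ υ ≫ pullback.snd (r ≫ q) q = r ≫ (ρ σ).hom) :
    IsFinite υ ∧ Surjective υ := by
  constructor
  · have hfold : υ ≫ pullback.fst (r ≫ q) q = Sigma.desc fun _ : G => 𝟙 Y := by
      refine Sigma.hom_ext _ _ fun σ => ?_
      rw [Sigma.ι_desc]
      exact h₁ σ
    haveI : IsFinite (υ ≫ pullback.fst (r ≫ q) q) := hfold ▸ isFinite_sigmaDesc _ fun _ => inferInstance
    exact IsFinite.of_comp υ (pullback.fst (r ≫ q) q)
  · refine ⟨fun z => ?_⟩
    obtain ⟨g, hg⟩ := htrans _ ((geomPt z ≫ pullback.fst (r ≫ q) q) ≫ r) (geomPt z ≫ pullback.snd (r ≫ q) q)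
      (by simp only [Category.assoc, pullback.condition])
    have hz : (geomPt z ≫ pullback.fst (r ≫ q) q) ≫ Sigma.ι (fun _ : G => Y) g ≫ υ = geomPt z := by
      apply pullback.hom_ext
      · simp only [Category.assoc, h₁ g, Category.comp_id]
      · simp only [Category.assoc, h₂ g]
        rw [← hg, Category.assoc, Category.assoc]
    refine ⟨Sigma.ι (fun _ : G => Y) g
      ((geomPt z ≫ pullback.fst (r ≫ q) q) (IsLocalRing.closedPoint _)), ?_⟩
    have := congrArg (fun f : Spec (CommRingCat.of (AlgebraicClosure ((pullback (r ≫ q) q).residueField z))) ⟶ _ =>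
      f (IsLocalRing.closedPoint _)) hz
    simp only [Scheme.Hom.comp_apply, geomPt_apply] at this ⊢
    exact this

theorem univSubmersive_of_finite {A B : Scheme.{u}} (f : A ⟶ B) [IsFinite f] [Surjective f] : SGA1.UnivSubmersive f := by
  intro A' B' i₁ i₂ f' h
  have : IsFinite f' := MorphismProperty.of_isPullback (P := @IsFinite) h.flip inferInstance
  have : Surjective f' := MorphismProperty.of_isPullback (P := @Surjective) h.flip inferInstance
  exact f'.isClosedMap.isQuotientMap f'.continuous f'.surjective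

include htrans in
theorem sheaf_sections [IsFinite q] [Surjective q] (hρ : ∀ g : G, (ρ g).hom ≫ q = q) (F : Scheme.{u}ᵒᵖ ⥤ Type w)
    (hF : ∀ ⦃T : Scheme.{u}⦄ (E : PreZeroHypercover.{u} T), Finite E.I₀ → (∀ i, LocallyOfFiniteType (E.f i)) →
      (∀ i, QuasiCompact (E.f i)) → (∀ i, LocallyQuasiFinite (E.f i)) → SGA1.UnivSubmersive (Sigma.desc E.f) →
      Presieve.IsSheafFor F E.presieve₀) :
    Function.Injective (F.map q.op) ∧
      Set.range (F.map q.op) = {f : F.obj (op X) | ∀ g : G, F.map (ρ g).hom.op f = f} := by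
  have hfinCover : ∀ {T : Scheme.{u}} (E : PreZeroHypercover.{u} T) [Finite E.I₀],
      (∀ i, IsFinite (E.f i)) → Surjective (Sigma.desc E.f) → Presieve.IsSheafFor F E.presieve₀ := fun E _ hE hs => by
    haveI := fun i => hE i
    haveI := isFinite_sigmaDesc E.f hE
    exact hF E inferInstance (fun i => inferInstance) (fun i => inferInstance) (fun i => inferInstance)
      (univSubmersive_of_finite _)
  -- the cover by `q`
  let E : PreZeroHypercover.{u} S := ⟨PUnit.{u + 1}, fun _ => X, fun _ => q⟩
  have hE : Presieve.IsSheafFor F (Presieve.ofArrows (fun _ : PUnit.{u + 1} => X) fun _ => q) :=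
    hfinCover E (fun _ => inferInstanceAs (IsFinite q)) (Surjective.sigmaDesc_of_union_range_eq_univ
      (Set.eq_univ_of_forall fun s => Set.mem_iUnion.mpr ⟨PUnit.unit, Surjective.surj (f := q) s⟩))
  rw [Presieve.isSheafFor_arrows_iff] at hE
  -- the cover of `X ×_S X` by the translates
  let d : G → (X ⟶ pullback q q) := fun σ =>
    pullback.lift (𝟙 X) (ρ σ).hom (by rw [Category.id_comp, hρ])
  have hdfin : ∀ σ, IsFinite (d σ) := fun σ => by
    haveI : IsFinite (d σ ≫ pullback.fst q q) := by rw [pullback.lift_fst]; infer_instance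
    exact IsFinite.of_comp (d σ) (pullback.fst q q)
  let E' : PreZeroHypercover.{u} (pullback q q) := ⟨G, fun _ => X, d⟩
  have hE' : Presieve.IsSheafFor F (Presieve.ofArrows (fun _ : G => X) d) :=
    haveI : Finite E'.I₀ := ‹Finite G›
    hfinCover E' hdfin (Surjective.sigmaDesc_of_union_range_eq_univ (Set.eq_univ_of_forall fun z => by
      obtain ⟨g, hg⟩ := htrans _ (geomPt z ≫ pullback.fst q q) (geomPt z ≫ pullback.snd q q)
        (by rw [Category.assoc, Category.assoc, pullback.condition])
      have hz : (geomPt z ≫ pullback.fst q q) ≫ d g = geomPt z := by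
        apply pullback.hom_ext
        · simp [d]
        · simp only [d, Category.assoc, pullback.lift_snd]
          rw [← hg, Category.assoc]
      refine Set.mem_iUnion.mpr ⟨g, (geomPt z ≫ pullback.fst q q) (IsLocalRing.closedPoint _), ?_⟩
      have := congrArg (fun f : Spec (CommRingCat.of (AlgebraicClosure ((pullback q q).residueField z))) ⟶ _ =>
        f (IsLocalRing.closedPoint _)) hz
      simp only [Scheme.Hom.comp_apply, geomPt_apply] at this ⊢
      exact this))
  constructor
  · intro s t hst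
    have hc : Presieve.Arrows.Compatible F (fun _ : PUnit.{u + 1} => q) (fun _ => F.map q.op s) := by
      intro i j Z gi gj h
      show F.map gi.op (F.map q.op s) = F.map gj.op (F.map q.op s)
      simp only [← Functor.map_comp_apply, ← op_comp, h]
    exact (hE _ hc).unique (fun _ => rfl) fun _ => hst.symm
  · ext f
    constructor
    · rintro ⟨s, rfl⟩ g
      simp only [← Functor.map_comp_apply, ← op_comp, hρ]
    · intro hf
      have hpair : F.map (pullback.fst q q).op f = F.map (pullback.snd q q).op f := by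
        refine hE'.isSeparatedFor.ext fun Z a ha => ?_
        obtain ⟨σ⟩ := ha
        show F.map (d σ).op (F.map (pullback.fst q q).op f) = F.map (d σ).op (F.map (pullback.snd q q).op f)
        rw [← Functor.map_comp_apply, ← Functor.map_comp_apply, ← op_comp, ← op_comp, pullback.lift_fst,
          pullback.lift_snd, hf σ, op_id, Functor.map_id_apply]
      have hc : Presieve.Arrows.Compatible F (fun _ : PUnit.{u + 1} => q) (fun _ => f) := by
        intro i j Z gi gj h
        have h1 : gi = pullback.lift gi gj h ≫ pullback.fst q q := (pullback.lift_fst _ _ _).symm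
        have h2 : gj = pullback.lift gi gj h ≫ pullback.snd q q := (pullback.lift_snd _ _ _).symm
        show F.map gi.op f = F.map gj.op f
        generalize hm : pullback.lift gi gj h = m at h1 h2
        rw [h1, h2, op_comp, op_comp, Functor.map_comp_apply, Functor.map_comp_apply, hpair]
      obtain ⟨t, ht, -⟩ := hE _ hc
      exact ⟨t, ht PUnit.unit⟩

end Groth.Agent.SGA1Quot.GeomTrans
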