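import Mathlib.AlgebraicGeometry.ResidueField
import Mathlib.FieldTheory.Normal.Basic
import Mathlib.FieldTheory.IsAlgClosed.Basic
import Mathlib.AlgebraicGeometry.Morphisms.Preimmersion

/-!
# Geometric points in one fibre and normal residue extensions
-/

set_option autoImplicit false
set_option linter.style.haveILetI false
set_option backward.isDefEq.respectTransparency.types false

universe u

open CategoryTheory CategoryTheory.Limits AlgebraicGeometry

namespace Groth.Agent.SGA1Quot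

theorem exists_smul_geomPoint {X S : Scheme.{u}} (q : X ⟶ S) {G : Type u} [Group G] (ρ : G →* Aut X)
    (hρ : ∀ g : G, (ρ g).hom ≫ q = q) (h1 : ∀ x y : X, q x = q y → ∃ g : G, (ρ g).hom x = y)
    (h2 : ∀ x : X, @Normal (S.residueField (q x)) (X.residueField x) _ _ (q.residueFieldMap x).hom.toAlgebra)
    (h3 : ∀ (x : X) (σ : X.residueField x ≅ X.residueField x), q.residueFieldMap x ≫ σ.hom = q.residueFieldMap x →
      ∃ g : G, X.fromSpecResidueField x ≫ (ρ g).hom = Spec.map σ.hom ≫ X.fromSpecResidueField x)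
    (Ω : Type u) [Field Ω] [IsAlgClosed Ω] (τ₁ τ₂ : Spec (CommRingCat.of Ω) ⟶ X) (hτ : τ₁ ≫ q = τ₂ ≫ q) :
    ∃ g : G, τ₁ ≫ (ρ g).hom = τ₂ := by
  let z := IsLocalRing.closedPoint Ω
  obtain ⟨g₀, hg₀⟩ := h1 (τ₁ z) (τ₂ z) (by rw [← Scheme.Hom.comp_apply, hτ, Scheme.Hom.comp_apply])
  -- reduce to one point
  suffices key : ∀ (x : X) (α β : X.residueField x ⟶ CommRingCat.of Ω),
      q.residueFieldMap x ≫ α = q.residueFieldMap x ≫ β →
      ∃ g : G, (Spec.map α ≫ X.fromSpecResidueField x) ≫ (ρ g).hom = Spec.map β ≫ X.fromSpecResidueField x by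
    obtain ⟨⟨x₁, α⟩, hα⟩ := (Scheme.SpecToEquivOfField Ω X).symm.surjective (τ₁ ≫ (ρ g₀).hom)
    obtain ⟨⟨x₂, β⟩, hβ⟩ := (Scheme.SpecToEquivOfField Ω X).symm.surjective τ₂
    replace hα : Spec.map α ≫ X.fromSpecResidueField x₁ = τ₁ ≫ (ρ g₀).hom := hα
    replace hβ : Spec.map β ≫ X.fromSpecResidueField x₂ = τ₂ := hβ
    obtain rfl : x₁ = x₂ := by
      have ea := congrArg (fun f : Spec (CommRingCat.of Ω) ⟶ X => f z) hα
      have eb := congrArg (fun f : Spec (CommRingCat.of Ω) ⟶ X => f z) hβ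
      simp only [Scheme.Hom.comp_apply, Scheme.fromSpecResidueField_apply] at ea eb
      rw [ea, eb]
      exact hg₀
    obtain ⟨g, hg⟩ := key x₁ α β (by
      have h : (τ₁ ≫ (ρ g₀).hom) ≫ q = τ₂ ≫ q := by rw [Category.assoc, hρ, hτ]
      rw [← hα, ← hβ, Category.assoc, Category.assoc, ← Scheme.Hom.SpecMap_residueFieldMap_fromSpecResidueField,
        ← Category.assoc, ← Category.assoc, ← Spec.map_comp, ← Spec.map_comp] at h
      exact Spec.map_injective ((cancel_mono _).mp h))
    refine ⟨g * g₀, ?_⟩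
    rw [map_mul, Aut.Aut_mul_def, Iso.trans_hom, ← Category.assoc, ← hα, hg, hβ]
  intro x α β h
  letI := (q.residueFieldMap x).hom.toAlgebra
  haveI := h2 x
  letI iEΩ : Algebra (X.residueField x) Ω := α.hom.toAlgebra
  letI : Algebra (S.residueField (q x)) Ω := (q.residueFieldMap x ≫ α).hom.toAlgebra
  haveI : IsScalarTower (S.residueField (q x)) (X.residueField x) Ω := IsScalarTower.of_algebraMap_eq fun _ => rfl
  let β' : X.residueField x →ₐ[S.residueField (q x)] Ω :=
    { β.hom with commutes' := fun r => (congrArg (fun φ : S.residueField (q x) ⟶ CommRingCat.of Ω => φ r) h).symm }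
  let σ := β'.restrictNormal' (X.residueField x)
  let σi : X.residueField x ≅ X.residueField x := σ.toRingEquiv.toCommRingCatIso
  obtain ⟨g, hg⟩ := h3 x σi (CommRingCat.hom_ext (RingHom.ext fun r => σ.commutes r))
  refine ⟨g, ?_⟩
  have hσ : σi.hom ≫ α = β :=
    CommRingCat.hom_ext (RingHom.ext fun e => β'.restrictNormal_commutes (X.residueField x) e)
  rw [Category.assoc, hg, ← Category.assoc, ← Spec.map_comp, hσ]

end Groth.Agent.SGA1Quot
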