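import Groth.Agent.SGA1Quot.Basic
import Mathlib.RingTheory.Invariant.Galois
import Mathlib.AlgebraicGeometry.ResidueField

/-!
# Residue fields of a quotient by a finite group
-/

set_option autoImplicit false
set_option linter.style.haveILetI false
set_option backward.isDefEq.respectTransparency false
set_option backward.isDefEq.respectTransparency.types false

universe u

open CategoryTheory CategoryTheory.Limits AlgebraicGeometry TopologicalSpace Opposite
open scoped Pointwise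

namespace Groth.Agent.SGA1Quot

variable {X Y : Scheme.{u}}

theorem eq_of_evaluation {W : X.Opens} (hW : IsAffineOpen W) {x y : X} (hx : x ∈ W) (hy : y ∈ W)
    (h : ∀ b, X.evaluation W x hx b = 0 ↔ X.evaluation W y hy b = 0) : x = y := by
  have hb : ∀ b, x ∈ X.basicOpen b ↔ y ∈ X.basicOpen (U := W) b := fun b => by
    rw [← not_iff_not, ← Scheme.evaluation_eq_zero_iff_notMem_basicOpen _ _ hx,
      ← Scheme.evaluation_eq_zero_iff_notMem_basicOpen _ _ hy]
    exact h b
  refine Inseparable.eq (inseparable_iff_forall_isOpen.mpr fun U hU => ⟨fun hxU => ?_, fun hyU => ?_⟩)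
  · obtain ⟨f, hf, hxf⟩ := hW.exists_basicOpen_le (V := ⟨U, hU⟩) ⟨x, hxU⟩ hx
    exact hf ((hb f).mp hxf)
  · obtain ⟨f, hf, hyf⟩ := hW.exists_basicOpen_le (V := ⟨U, hU⟩) ⟨y, hyU⟩ hy
    exact hf ((hb f).mpr hyf)

theorem exists_evaluation_div {W : X.Opens} (hW : IsAffineOpen W) {x : X} (hx : x ∈ W) (z : X.residueField x) :
    ∃ b c, X.evaluation W x hx c ≠ 0 ∧ z * X.evaluation W x hx c = X.evaluation W x hx b := by
  obtain ⟨w, rfl⟩ := X.residue_surjective x z
  letI := (X.presheaf.germ W x hx).hom.toAlgebra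
  haveI : IsLocalization.AtPrime (X.presheaf.stalk x) (hW.primeIdealOf ⟨x, hx⟩).asIdeal := hW.isLocalization_stalk ⟨x, hx⟩
  obtain ⟨⟨b, c⟩, hbc⟩ := IsLocalization.surj (hW.primeIdealOf ⟨x, hx⟩).asIdeal.primeCompl w
  refine ⟨b, c.1, ?_, ?_⟩
  · have hu : IsUnit (X.presheaf.germ W x hx c.1) := IsLocalization.map_units (X.presheaf.stalk x) c
    exact (hu.map (X.residue x).hom).ne_zero
  · show X.residue x w * X.residue x (X.presheaf.germ W x hx c.1) = X.residue x (X.presheaf.germ W x hx b)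
    rw [← map_mul]
    exact congrArg (X.residue x).hom hbc

theorem hom_ext_evaluation {W : X.Opens} (hW : IsAffineOpen W) {x : X} (hx : x ∈ W) {R : CommRingCat.{u}}
    [IsDomain R] (f g : X.residueField x ⟶ R) (hfg : ∀ b, f (X.evaluation W x hx b) = g (X.evaluation W x hx b)) :
    f = g := by
  refine CommRingCat.hom_ext (RingHom.ext fun z => ?_)
  obtain ⟨b, c, hc, h⟩ := exists_evaluation_div hW hx z
  have hf := congrArg f.hom h
  have hg := congrArg g.hom h
  rw [map_mul] at hf hg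
  exact mul_right_cancel₀ ((map_ne_zero_iff _ f.hom.injective).mpr hc)
    (hf.trans ((hfg b).trans (hg.symm.trans (congrArg (g.hom z * ·) (hfg c).symm))))

theorem residueFieldMap_evaluation (σ : X ⟶ X) {W : X.Opens} (e : W ≤ σ ⁻¹ᵁ W) {x : X} (hx : x ∈ W) (b : Γ(X, W)) :
    σ.residueFieldMap x (X.evaluation W (σ x) (e hx) b) = X.evaluation W x hx (σ.appLE W W e b) := by
  rw [Scheme.evaluation_naturality_apply]
  show X.residue x (X.presheaf.germ (σ ⁻¹ᵁ W) x (e hx) (σ.app W b)) = X.residue x (X.presheaf.germ W x hx (σ.appLE W W e b))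
  congr 1
  rw [Scheme.Hom.appLE, CommRingCat.comp_apply, ← CommRingCat.comp_apply _ (X.presheaf.germ W x hx), TopCat.Presheaf.germ_res]

theorem evaluation_congr {W : X.Opens} {x y : X} (e : y = x) (hx : x ∈ W) (hy : y ∈ W) (b : Γ(X, W)) :
    (X.residueFieldCongr e).inv (X.evaluation W x hx b) = X.evaluation W y hy b := by
  subst e
  simp

variable {G : Type u} [Group G] [Finite G] {ρ : G →* Aut X} {p : X ⟶ Y}

theorem residueField_normal_and_surjective (hp : SGA1.IsQuot ρ p) (x : X) :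
    (letI := (p.residueFieldMap x).hom.toAlgebra
     Normal (Y.residueField (p.base x)) (X.residueField x)) ∧
    ∀ τ : X.residueField x ≅ X.residueField x,
      p.residueFieldMap x ≫ τ.hom = p.residueFieldMap x →
      ∃ (g : G) (e : (ρ g).hom.base x = x),
        τ.hom = (X.residueFieldCongr e).inv ≫ (ρ g).hom.residueFieldMap x := by
  haveI := hp.affine
  obtain ⟨V, hV, hxV, -⟩ := exists_isAffineOpen_mem_and_subset (x := p x) (U := (⊤ : Y.Opens)) trivial
  have hW : IsAffineOpen (p ⁻¹ᵁ V) := hV.preimage p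
  have hxW : x ∈ p ⁻¹ᵁ V := hxV
  letI iact := action hp V
  letI iAB := (p.app V).hom.toAlgebra
  haveI := action_invariant hp V
  haveI := action_comm hp V
  let evA := Y.evaluation V (p x) hxV
  let evB := X.evaluation (p ⁻¹ᵁ V) x hxW
  let P := RingHom.ker evA.hom
  let Q := RingHom.ker evB.hom
  have hcompat : ∀ a, p.residueFieldMap x (evA a) = evB (p.app V a) :=
    fun a => Scheme.evaluation_naturality_apply p x hxV a
  haveI : P.IsPrime := RingHom.ker_isPrime _
  haveI : Q.IsPrime := RingHom.ker_isPrime _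
  haveI : Q.LiesOver P := ⟨Ideal.ext fun a => by
    show evA a = 0 ↔ evB (p.app V a) = 0
    rw [← hcompat]
    exact (map_eq_zero_iff _ (p.residueFieldMap x).hom.injective).symm⟩
  let K := Y.residueField (p x)
  let L := X.residueField x
  letI iKL : Algebra K L := (p.residueFieldMap x).hom.toAlgebra
  letI iA : Algebra (Γ(Y, V) ⧸ P) K := (RingHom.kerLift evA.hom).toAlgebra
  letI iB : Algebra (Γ(X, p ⁻¹ᵁ V) ⧸ Q) L := (RingHom.kerLift evB.hom).toAlgebra
  letI iAL : Algebra (Γ(Y, V) ⧸ P) L := ((RingHom.kerLift evB.hom).comp (algebraMap (Γ(Y, V) ⧸ P) (Γ(X, p ⁻¹ᵁ V) ⧸ Q))).toAlgebra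
  haveI : IsScalarTower (Γ(Y, V) ⧸ P) (Γ(X, p ⁻¹ᵁ V) ⧸ Q) L := IsScalarTower.of_algebraMap_eq fun _ => rfl
  haveI : IsScalarTower (Γ(Y, V) ⧸ P) K L := IsScalarTower.of_algebraMap_eq fun a => by
    obtain ⟨a, rfl⟩ := Ideal.Quotient.mk_surjective a
    exact (hcompat a).symm
  haveI hFA : IsFractionRing (Γ(Y, V) ⧸ P) K := by
    haveI : FaithfulSMul (Γ(Y, V) ⧸ P) K := (faithfulSMul_iff_algebraMap_injective _ _).mpr (RingHom.kerLift_injective _)
    refine IsFractionRing.of_field _ K fun z => ?_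
    obtain ⟨b, c, hc, h⟩ := exists_evaluation_div hV hxV z
    exact ⟨Ideal.Quotient.mk P b, Ideal.Quotient.mk P c, (eq_div_iff hc).mpr h⟩
  haveI hFB : IsFractionRing (Γ(X, p ⁻¹ᵁ V) ⧸ Q) L := by
    haveI : FaithfulSMul (Γ(X, p ⁻¹ᵁ V) ⧸ Q) L := (faithfulSMul_iff_algebraMap_injective _ _).mpr (RingHom.kerLift_injective _)
    refine IsFractionRing.of_field _ L fun z => ?_
    obtain ⟨b, c, hc, h⟩ := exists_evaluation_div hW hxW z
    exact ⟨Ideal.Quotient.mk Q b, Ideal.Quotient.mk Q c, (eq_div_iff hc).mpr h⟩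
  refine ⟨Ideal.IsFractionRing.normal G P Q K L, fun τ hτ => ?_⟩
  let τ' : Gal(L/K) := AlgEquiv.ofRingEquiv (f := τ.commRingCatIsoToRingEquiv) fun k =>
    congrArg (fun φ : K ⟶ L => φ k) hτ
  obtain ⟨s, hs⟩ := IsFractionRing.stabilizerHom_surjective G P Q K L τ'
  let g := s.1⁻¹
  have e0 := SGA1.preimage_le_of_inv ρ p hp.inv g V
  have hact : ∀ b : Γ(X, p ⁻¹ᵁ V), s.1 • b = (ρ g).hom.appLE _ _ e0 b := fun b => rfl
  have hsb : ∀ b, evB ((ρ g).hom.appLE _ _ e0 b) = τ.hom (evB b) := fun b => by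
    have h := AlgEquiv.congr_fun hs (algebraMap _ L (Ideal.Quotient.mk Q b))
    rw [IsFractionRing.stabilizerHom_apply_apply_mk, hact] at h
    exact h
  have hgx : (ρ g).hom.base x = x := by
    refine eq_of_evaluation hW (e0 hxW) hxW fun b => ?_
    rw [← map_eq_zero_iff _ ((ρ g).hom.residueFieldMap x).hom.injective, residueFieldMap_evaluation _ e0 hxW]
    show evB ((ρ g).hom.appLE _ _ e0 b) = 0 ↔ evB b = 0
    rw [hsb]
    exact map_eq_zero_iff _ τ.hom.hom.injective
  refine ⟨g, hgx, hom_ext_evaluation hW hxW _ _ fun b => ?_⟩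
  show τ.hom (evB b) = (ρ g).hom.residueFieldMap x ((X.residueFieldCongr hgx).inv (X.evaluation (p ⁻¹ᵁ V) x hxW b))
  rw [evaluation_congr hgx hxW (e0 hxW), residueFieldMap_evaluation _ e0 hxW, ← hsb]

end Groth.Agent.SGA1Quot
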