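import Mathlib.RingTheory.Invariant.Defs
import Mathlib.RingTheory.Ideal.Quotient.Basic
import Mathlib.LinearAlgebra.TensorProduct.Basic
import Mathlib.Algebra.Module.Projective
import Mathlib.RingTheory.TensorProduct.Basic
import Mathlib.RingTheory.Flat.Basic

/-!
# Free actions of finite groups on rings (Chase–Harrison–Rosenberg)

If a finite group `G` acts on `B` with invariants `A` and for every `g ≠ 1` the elements `g • b - b`
generate the unit ideal, then `B` is finite projective over `A` and `B ⊗[A] B ≅ ∏_G B`.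
-/

set_option autoImplicit false

universe u

open scoped TensorProduct

namespace Groth.Agent.SGA1Quot

variable (A B G : Type*) [CommRing A] [CommRing B] [Algebra A B] [Group G]
  [MulSemiringAction G B] [SMulCommClass G A B]

/-- `b ⊗ b' ↦ (σ ↦ b * σ b')`. -/
noncomputable def phi : B ⊗[A] B →ₐ[B] (G → B) :=
  Algebra.TensorProduct.lift (Algebra.ofId B (G → B))
    ({ toFun := fun b σ => σ • b
       map_one' := funext fun _ => smul_one _
       map_mul' := fun _ _ => funext fun _ => smul_mul' _ _ _
       map_zero' := funext fun _ => smul_zero _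
       map_add' := fun _ _ => funext fun _ => smul_add _ _ _
       commutes' := fun a => funext fun σ => smul_algebraMap σ a } : B →ₐ[A] (G → B))
    (fun _ _ => Commute.all _ _)

@[simp] theorem phi_tmul (b b' : B) (σ : G) : phi A B G (b ⊗ₜ b') σ = b * σ • b' := by
  simp [phi]

variable {A B G}

theorem exists_one_at (g : G) (hfree : Ideal.span (Set.range fun b : B => g • b - b) = ⊤) :
    ∃ z : B ⊗[A] B, phi A B G z 1 = 0 ∧ phi A B G z g = 1 := by
  have h1 : (1 : B) ∈ Ideal.span (Set.range fun b : B => g • b - b) := hfree ▸ Submodule.mem_top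
  suffices ∀ c ∈ Ideal.span (Set.range fun b : B => g • b - b),
      ∃ z : B ⊗[A] B, phi A B G z 1 = 0 ∧ phi A B G z g = c from this 1 h1
  intro c hc
  induction hc using Submodule.span_induction with
  | mem x hx =>
    obtain ⟨b, rfl⟩ := hx
    exact ⟨1 ⊗ₜ b - b ⊗ₜ 1, by simp, by simp⟩
  | zero => exact ⟨0, by simp, by simp⟩
  | add x y _ _ hx hy =>
    obtain ⟨z, hz, hz'⟩ := hx
    obtain ⟨w, hw, hw'⟩ := hy
    exact ⟨z + w, by simp [hz, hw], by simp [hz', hw']⟩
  | smul a x _ hx =>
    obtain ⟨z, hz, hz'⟩ := hx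
    exact ⟨a • z, by simp [hz], by simp [hz']⟩

variable [Finite G]

theorem exists_delta (hfree : ∀ g : G, g ≠ 1 → Ideal.span (Set.range fun b : B => g • b - b) = ⊤) :
    ∃ e : B ⊗[A] B, phi A B G e 1 = 1 ∧ ∀ g : G, g ≠ 1 → phi A B G e g = 0 := by
  classical
  cases nonempty_fintype G
  choose z hz hz' using fun g : {g : G // g ≠ 1} => exists_one_at (A := A) g.1 (hfree g.1 g.2)
  refine ⟨∏ g, (1 - z g), ?_, fun g hg => ?_⟩
  · simp [map_prod, Finset.prod_apply, hz]
  · rw [map_prod, Finset.prod_apply]
    exact Finset.prod_eq_zero (Finset.mem_univ ⟨g, hg⟩) (by simp [hz'])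

/-- The trace, with values in the invariants. -/
theorem exists_trace [Algebra.IsInvariant A B G] [Fintype G] (b : B) :
    ∃ a : A, algebraMap A B a = ∑ σ : G, σ • b := by
  refine Algebra.IsInvariant.isInvariant (G := G) _ fun g => ?_
  rw [Finset.smul_sum]
  exact Fintype.sum_equiv (Equiv.mulLeft g) _ _ fun σ => (mul_smul g σ b).symm

variable [Algebra.IsInvariant A B G]
variable (hinj : Function.Injective (algebraMap A B))
  (hfree : ∀ g : G, g ≠ 1 → Ideal.span (Set.range fun b : B => g • b - b) = ⊤)

include hinj hfree in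
theorem exists_dual : ∃ (n : ℕ) (x : Fin n → B) (T : Fin n → (B →ₗ[A] A)) (y : Fin n → B),
    (∀ b, ∑ i, T i b • x i = b) ∧
    ∀ i b, (∀ [Fintype G], algebraMap A B (T i b) = ∑ σ : G, σ • (b * y i)) := by
  classical
  cases nonempty_fintype G
  obtain ⟨e, he1, he⟩ := exists_delta (A := A) hfree
  obtain ⟨S, rfl⟩ := TensorProduct.exists_finset (R := A) e
  choose T hT using fun (y : B) (b : B) => exists_trace (A := A) (G := G) (b * y)
  let Tl : B → (B →ₗ[A] A) := fun y =>
    { toFun := T y
      map_add' := fun b b' => hinj (by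
        rw [map_add, hT, hT, hT, ← Finset.sum_add_distrib]
        exact Finset.sum_congr rfl fun σ _ => by rw [add_mul, smul_add])
      map_smul' := fun a b => hinj (by
        rw [RingHom.id_apply, smul_eq_mul, map_mul, hT, hT, Finset.mul_sum]
        exact Finset.sum_congr rfl fun σ _ => by rw [smul_mul_assoc, smul_comm, Algebra.smul_def]) }
  let ν := S.equivFin.symm
  refine ⟨S.card, fun i => (ν i).1.1, fun i => Tl (ν i).1.2, fun i => (ν i).1.2, fun b => ?_, fun i b _ => ?_⟩
  · rw [ν.sum_comp (fun s : {s // s ∈ S} => Tl s.1.2 b • s.1.1),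
      Finset.sum_coe_sort S (fun s => Tl s.2 b • s.1)]
    have key : ∀ s : B × B, Tl s.2 b • s.1 = ∑ σ : G, σ • b * phi A B G (s.1 ⊗ₜ s.2) σ := fun s => by
      rw [Algebra.smul_def, show algebraMap A B (Tl s.2 b) = _ from hT s.2 b, Finset.sum_mul]
      exact Finset.sum_congr rfl fun σ _ => by rw [phi_tmul, smul_mul', mul_comm s.1, ← mul_assoc]
    simp only [key]
    rw [Finset.sum_comm]
    simp only [← Finset.mul_sum, ← Finset.sum_apply, ← map_sum]
    rw [Finset.sum_eq_single (1 : G) (fun g _ hg => by rw [he g hg, mul_zero]) (by simp), he1, mul_one, one_smul]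
  · show algebraMap A B (T _ b) = _
    rw [hT]
    convert rfl

include hinj hfree in
theorem finite_projective : Module.Finite A B ∧ Module.Projective A B := by
  obtain ⟨n, x, T, y, h, -⟩ := exists_dual hinj hfree
  let π : (Fin n → A) →ₗ[A] B := Fintype.linearCombination A x
  let s : B →ₗ[A] (Fin n → A) := LinearMap.pi T
  have hs : π.comp s = LinearMap.id := LinearMap.ext fun b => by
    simp [π, s, Fintype.linearCombination_apply, h]
  exact ⟨Module.Finite.of_surjective π fun b => ⟨s b, LinearMap.congr_fun hs b⟩, .of_split s π hs⟩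

include hinj hfree in
theorem phi_bijective : Function.Bijective (phi A B G) := by
  classical
  cases nonempty_fintype G
  obtain ⟨n, x, T, y, h, hT⟩ := exists_dual hinj hfree
  obtain ⟨e, he1, he⟩ := exists_delta (A := A) hfree
  refine ⟨?_, ?_⟩
  · have key : ∀ z : B ⊗[A] B, z = ∑ i, (∑ σ : G, phi A B G z σ * σ • y i) ⊗ₜ[A] x i := by
      intro z
      induction z using TensorProduct.induction_on with
      | zero => simp
      | add z w hz hw =>
        conv_lhs => rw [hz, hw]
        simp only [map_add, Pi.add_apply, add_mul, Finset.sum_add_distrib, TensorProduct.add_tmul]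
      | tmul u v =>
        conv_lhs => rw [← h v]
        rw [TensorProduct.tmul_sum]
        refine Finset.sum_congr rfl fun i _ => ?_
        rw [← TensorProduct.smul_tmul, Algebra.smul_def, hT i v, Finset.sum_mul]
        congr 1
        exact Finset.sum_congr rfl fun σ _ => by rw [phi_tmul, smul_mul', mul_comm _ u, mul_assoc]
    intro z w hzw
    rw [key z, key w, hzw]
  · intro f
    let shift : G → (B ⊗[A] B →ₗ[A] B ⊗[A] B) := fun τ =>
      TensorProduct.map LinearMap.id (DistribMulAction.toLinearMap A B τ⁻¹)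
    have hshift : ∀ τ z σ, phi A B G (shift τ z) σ = phi A B G z (σ * τ⁻¹) := by
      intro τ z σ
      induction z using TensorProduct.induction_on with
      | zero => simp
      | add z w hz hw => simp only [map_add, Pi.add_apply, hz, hw]
      | tmul u v =>
        simp only [shift, TensorProduct.map_tmul, LinearMap.id_apply, phi_tmul, mul_smul]
        rfl
    refine ⟨∑ τ : G, f τ • shift τ e, funext fun σ => ?_⟩
    rw [map_sum, Finset.sum_apply, Finset.sum_eq_single σ]
    · rw [map_smul, Pi.smul_apply, hshift, mul_inv_cancel, he1, smul_eq_mul, mul_one]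
    · intro τ _ hτ
      rw [map_smul, Pi.smul_apply, hshift, he _ (fun h => hτ (mul_inv_eq_one.mp h).symm), smul_zero]
    · simp

end Groth.Agent.SGA1Quot
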