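import Groth.Agent.SGA1Quot.Basic
import Groth.Agent.SGA1Quot.FreeAlgebra
import Mathlib.AlgebraicGeometry.Morphisms.Flat
import Mathlib.AlgebraicGeometry.Limits
import Mathlib.FieldTheory.IsAlgClosed.AlgebraicClosure

/-!
# Free quotients by finite groups are torsors
-/

set_option autoImplicit false
set_option linter.style.haveILetI false
set_option backward.isDefEq.respectTransparency false
set_option backward.isDefEq.respectTransparency.types false

universe u

open CategoryTheory CategoryTheory.Limits AlgebraicGeometry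
open scoped TensorProduct

namespace Groth.Agent.SGA1Quot

variable {X Y : Scheme.{u}} {G : Type u} [Group G] {ρ : G →* Aut X} {p : X ⟶ Y}

/-- No nontrivial group element fixes a geometric point. -/
def IsFree (ρ : G →* Aut X) : Prop :=
  ∀ (K : Type u) [Field K] [IsAlgClosed K] (ξ : Spec (CommRingCat.of K) ⟶ X) (g : G),
    ξ ≫ (ρ g).hom = ξ → g = 1

theorem span_eq_top (hp : SGA1.IsQuot ρ p) (hfree : IsFree ρ) {V : Y.Opens} (hV : IsAffineOpen V) (g : G)
    (hg : g ≠ 1) : letI := action hp V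
    Ideal.span (Set.range fun b : Γ(X, p ⁻¹ᵁ V) => g • b - b) = ⊤ := by
  letI := action hp V
  haveI := hp.affine
  by_contra hne
  obtain ⟨P, hP, hle⟩ := Ideal.exists_le_maximal _ hne
  letI := Ideal.Quotient.field P
  let K := AlgebraicClosure (Γ(X, p ⁻¹ᵁ V) ⧸ P)
  let φ : Γ(X, p ⁻¹ᵁ V) ⟶ CommRingCat.of K :=
    CommRingCat.ofHom ((algebraMap (Γ(X, p ⁻¹ᵁ V) ⧸ P) K).comp (Ideal.Quotient.mk P))
  let hW := hV.preimage p
  let e := SGA1.preimage_le_of_inv ρ p hp.inv g⁻¹ V
  have hφ : (ρ g⁻¹).hom.appLE _ _ e ≫ φ = φ := by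
    ext b
    show algebraMap _ K (Ideal.Quotient.mk P (g • b)) = algebraMap _ K (Ideal.Quotient.mk P b)
    congr 1
    rw [Ideal.Quotient.eq]
    exact hle (Ideal.subset_span ⟨b, rfl⟩)
  refine hg (inv_eq_one.mp (hfree K (Spec.map φ ≫ hW.fromSpec) g⁻¹ ?_))
  rw [Category.assoc, ← IsAffineOpen.SpecMap_appLE_fromSpec (ρ g⁻¹).hom hW hW e, ← Spec.map_comp_assoc, hφ]

theorem restrict_isoSpec [IsAffineHom p] {V : Y.Opens} (hV : IsAffineOpen V) :
    (hV.preimage p).isoSpec.hom ≫ Spec.map (p.app V) ≫ hV.isoSpec.inv = p ∣_ V := by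
  rw [← cancel_mono V.ι, Category.assoc, Category.assoc, IsAffineOpen.isoSpec_inv_ι,
    Scheme.Hom.app_eq_appLE, IsAffineOpen.SpecMap_appLE_fromSpec p hV (hV.preimage p), morphismRestrict_ι]
  exact (IsAffineOpen.isoSpec_hom_fromSpec_assoc _ p)

variable [Finite G]

theorem algebra_facts (hp : SGA1.IsQuot ρ p) (hfree : IsFree ρ) {V : Y.Opens} (hV : IsAffineOpen V) :
    letI := action hp V; letI := (p.app V).hom.toAlgebra; haveI := action_comm hp V
    (Module.Finite Γ(Y, V) Γ(X, p ⁻¹ᵁ V) ∧ Module.Projective Γ(Y, V) Γ(X, p ⁻¹ᵁ V)) ∧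
      Function.Bijective (phi Γ(Y, V) Γ(X, p ⁻¹ᵁ V) G) := by
  letI := action hp V; letI := (p.app V).hom.toAlgebra
  haveI := action_comm hp V
  haveI := action_invariant hp V
  exact ⟨finite_projective (hp.injective V) fun g hg => span_eq_top hp hfree hV g hg,
    phi_bijective (hp.injective V) fun g hg => span_eq_top hp hfree hV g hg⟩

theorem flat (hp : SGA1.IsQuot ρ p) (hfree : IsFree ρ) : Flat p := by
  haveI := hp.affine
  rw [IsZariskiLocalAtTarget.iff_of_iSup_eq_top (P := @Flat) (fun U : Y.affineOpens => U.1) (iSup_affineOpens_eq_top Y)]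
  intro U
  letI := action hp U.1; letI := (p.app U.1).hom.toAlgebra
  haveI := (algebra_facts hp hfree U.2).1.2
  have : Flat (Spec.map (p.app U.1)) :=
    (HasRingHomProperty.Spec_iff (P := @Flat)).mpr (inferInstance : Module.Flat Γ(Y, U.1) Γ(X, p ⁻¹ᵁ U.1))
  rw [← restrict_isoSpec U.2]
  infer_instance

omit [Finite G] in
/-- The comparison map of a torsor. -/
noncomputable abbrev torsorMap (hp : SGA1.IsQuot ρ p) : (∐ fun _ : G => X) ⟶ pullback p p :=
  Sigma.desc fun g : G => pullback.lift (𝟙 X) (ρ g).hom ((Category.id_comp p).trans (hp.inv g).symm)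

theorem isIso_torsorMap (hp : SGA1.IsQuot ρ p) (hfree : IsFree ρ) : IsIso (torsorMap hp) := by
  classical
  haveI := hp.affine
  let j : ∀ U : Y.affineOpens, pullback (Spec.map (p.app U.1)) (Spec.map (p.app U.1)) ⟶ pullback p p := fun U =>
    pullback.map _ _ p p (U.2.preimage p).fromSpec (U.2.preimage p).fromSpec U.2.fromSpec
      (by rw [Scheme.Hom.app_eq_appLE, IsAffineOpen.SpecMap_appLE_fromSpec p U.2 (U.2.preimage p)])
      (by rw [Scheme.Hom.app_eq_appLE, IsAffineOpen.SpecMap_appLE_fromSpec p U.2 (U.2.preimage p)])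
  have hjo : ∀ U, IsOpenImmersion (j U) := fun U => inferInstance
  have hjr : ∀ U, Set.range (j U) = (pullback.fst p p ≫ p) ⁻¹' (U.1 : Set Y) := fun U => by
    ext z
    constructor
    · rintro ⟨w, rfl⟩
      show (pullback.fst p p ≫ p) (j U w) ∈ (U.1 : Set Y)
      rw [← Scheme.Hom.comp_apply, ← Category.assoc, pullback.lift_fst, Category.assoc,
        ← IsAffineOpen.SpecMap_appLE_fromSpec p U.2 (U.2.preimage p) le_rfl, ← Category.assoc,
        Scheme.Hom.comp_apply, ← U.2.range_fromSpec]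
      exact ⟨_, rfl⟩
    · intro hz
      rw [Scheme.Pullback.range_map]
      refine ⟨?_, ?_⟩
      · show pullback.fst p p z ∈ Set.range (U.2.preimage p).fromSpec
        rw [(U.2.preimage p).range_fromSpec]
        exact hz
      · show pullback.snd p p z ∈ Set.range (U.2.preimage p).fromSpec
        rw [(U.2.preimage p).range_fromSpec]
        rw [pullback.condition] at hz
        exact hz
  -- the affine pieces
  let c : ∀ (U : Y.affineOpens) (g : G), Spec Γ(X, p ⁻¹ᵁ U.1) ⟶ pullback (Spec.map (p.app U.1)) (Spec.map (p.app U.1)) :=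
    fun U g => pullback.lift (𝟙 _) (Spec.map ((ρ g).hom.appLE _ _ (SGA1.preimage_le_of_inv ρ p hp.inv g U.1))) (by
      rw [Category.id_comp, ← cancel_mono U.2.fromSpec, Category.assoc, Scheme.Hom.app_eq_appLE,
        IsAffineOpen.SpecMap_appLE_fromSpec p U.2 (U.2.preimage p),
        IsAffineOpen.SpecMap_appLE_fromSpec_assoc (ρ g).hom (U.2.preimage p) (U.2.preimage p), hp.inv])
  have hc : ∀ U, IsIso (Sigma.desc (c U)) := fun U => by
    letI := action hp U.1; letI := (p.app U.1).hom.toAlgebra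
    haveI := action_comm hp U.1
    let B := Γ(X, p ⁻¹ᵁ U.1)
    let e := RingEquiv.ofBijective _ (algebra_facts hp hfree U.2).2
    haveI : IsIso (Spec.map (CommRingCat.ofHom (phi Γ(Y, U.1) B G).toRingHom)) := by
      haveI : IsIso (CommRingCat.ofHom (phi Γ(Y, U.1) B G).toRingHom) :=
        (ConcreteCategory.isIso_iff_bijective _).mpr (algebra_facts hp hfree U.2).2
      infer_instance
    let θ : (∐ fun _ : G => Spec B) ⟶ pullback (Spec.map (p.app U.1)) (Spec.map (p.app U.1)) :=
      sigmaSpec (fun _ : G => B) ≫ Spec.map (CommRingCat.ofHom (phi Γ(Y, U.1) B G).toRingHom) ≫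
        (pullbackSpecIso Γ(Y, U.1) B B).inv
    let τ : (∐ fun _ : G => Spec B) ⟶ (∐ fun _ : G => Spec B) := Sigma.desc fun g : G => Sigma.ι (fun _ : G => Spec B) g⁻¹
    haveI : IsIso τ := ⟨τ, by ext; simp [τ], by ext; simp [τ]⟩
    have : Sigma.desc (c U) = τ ≫ θ := by
      refine Sigma.hom_ext _ _ fun g => ?_
      simp only [τ, θ]
      erw [Sigma.ι_desc, Sigma.ι_desc_assoc, ι_sigmaSpec_assoc]
      apply pullback.hom_ext
      · simp only [c, pullback.lift_fst, Category.assoc]
        erw [pullbackSpecIso_inv_fst]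
        rw [← Spec.map_comp, ← Spec.map_comp, ← Spec.map_id]
        congr 1
        ext b
        show _ = phi Γ(Y, U.1) B G (b ⊗ₜ 1) g⁻¹
        rw [phi_tmul, smul_one, mul_one]
        rfl
      · simp only [c, pullback.lift_snd, Category.assoc]
        erw [pullbackSpecIso_inv_snd]
        rw [← Spec.map_comp, ← Spec.map_comp]
        congr 1
        ext b
        show _ = phi Γ(Y, U.1) B G (1 ⊗ₜ b) g⁻¹
        rw [phi_tmul, one_mul, action_smul]
        simp only [FEtQuot.act, inv_inv]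
    rw [this]
    infer_instance
  have hcov : ⨆ U : Y.affineOpens, (pullback.fst p p ≫ p) ⁻¹ᵁ U.1 = ⊤ := by
    rw [← Scheme.Hom.preimage_iSup, iSup_affineOpens_eq_top]; rfl
  show MorphismProperty.isomorphisms Scheme.{u} (torsorMap hp)
  rw [IsZariskiLocalAtTarget.iff_of_iSup_eq_top (P := MorphismProperty.isomorphisms Scheme.{u}) _ hcov]
  intro U
  haveI := hjo U
  haveI := hc U
  let m : (∐ fun _ : G => Spec Γ(X, p ⁻¹ᵁ U.1)) ⟶ ∐ fun _ : G => X :=
    Sigma.desc fun g : G => (U.2.preimage p).fromSpec ≫ Sigma.ι (fun _ : G => X) g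
  have hm : m ≫ torsorMap hp = Sigma.desc (c U) ≫ j U := by
    refine Sigma.hom_ext _ _ fun g => ?_
    simp only [m, torsorMap, Sigma.ι_desc_assoc, Category.assoc, Sigma.ι_desc]
    apply pullback.hom_ext
    · simp only [c, j, pullback.map, Category.assoc, pullback.lift_fst, pullback.lift_fst_assoc]
      exact (Category.comp_id _).trans (Category.id_comp _).symm
    · simp only [c, j, pullback.map, Category.assoc, pullback.lift_snd, pullback.lift_snd_assoc]
      exact (IsAffineOpen.SpecMap_appLE_fromSpec (ρ g).hom (U.2.preimage p) (U.2.preimage p) _).symm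
  haveI : IsOpenImmersion m := isOpenImmersion_sigmaDesc (g := fun _ : G => Spec Γ(X, p ⁻¹ᵁ U.1))
      (fun g : G => (U.2.preimage p).fromSpec ≫ Sigma.ι (fun _ : G => X) g) fun a b hab => Set.disjoint_left.mpr (by
    rintro _ ⟨x, rfl⟩ ⟨y, hy⟩
    rw [Scheme.Hom.comp_apply, Scheme.Hom.comp_apply] at hy
    exact hab (congrArg Sigma.fst ((sigmaι_eq_iff (fun _ : G => X) b a _ _).mp hy)).symm)
  have hr : (torsorMap hp) ⁻¹ᵁ (j U).opensRange = m.opensRange := by
    ext z
    obtain ⟨g, x, rfl⟩ : ∃ g x, Sigma.ι (fun _ : G => X) g x = z := by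
      obtain ⟨g, x, hx⟩ := (sigmaOpenCover fun _ : G => X).exists_eq z
      exact ⟨g, x, hx⟩
    have e1 : (pullback.fst p p ≫ p) (torsorMap hp (Sigma.ι (fun _ : G => X) g x)) = p x := by
      rw [← Scheme.Hom.comp_apply, ← Scheme.Hom.comp_apply, ← Category.assoc, ← Category.assoc, Sigma.ι_desc,
        pullback.lift_fst, Category.id_comp]
    show torsorMap hp _ ∈ Set.range (j U) ↔ _ ∈ Set.range m
    rw [hjr, Set.mem_preimage, e1]
    constructor
    · intro hx
      obtain ⟨w, rfl⟩ : x ∈ Set.range (U.2.preimage p).fromSpec := by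
        rw [(U.2.preimage p).range_fromSpec]; exact hx
      refine ⟨Sigma.ι (fun _ : G => Spec Γ(X, p ⁻¹ᵁ U.1)) g w, ?_⟩
      rw [← Scheme.Hom.comp_apply, Sigma.ι_desc, Scheme.Hom.comp_apply]
    · rintro ⟨w, hw⟩
      obtain ⟨g', w', rfl⟩ : ∃ g x, Sigma.ι (fun _ : G => Spec Γ(X, p ⁻¹ᵁ U.1)) g x = w := by
        obtain ⟨g, x, hx⟩ := (sigmaOpenCover fun _ : G => Spec Γ(X, p ⁻¹ᵁ U.1)).exists_eq w
        exact ⟨g, x, hx⟩
      rw [← e1, ← hw, ← Set.mem_preimage, ← hjr, ← Scheme.Hom.comp_apply, hm, Scheme.Hom.comp_apply]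
      exact ⟨_, rfl⟩
  have hopen : (pullback.fst p p ≫ p) ⁻¹ᵁ U.1 = (j U).opensRange := TopologicalSpace.Opens.ext (hjr U).symm
  have sq : IsPullback (Sigma.desc (c U)) m (j U) (torsorMap hp) :=
    IsOpenImmersion.isPullback _ _ _ _ hm hr
  have h1 : IsIso (pullback.snd (torsorMap hp) (j U)) := by
    rw [← sq.flip.isoPullback_inv_snd]; infer_instance
  rw [hopen]
  exact (MorphismProperty.arrow_mk_iso_iff (MorphismProperty.isomorphisms Scheme.{u})
    (morphismRestrictOpensRange (torsorMap hp) (j U))).mpr h1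

end Groth.Agent.SGA1Quot
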